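import Mathlib
import Cfsg.Agent.H160.QSpin
import Cfsg.Agent.ClassicalGeometry.Discriminant
import Cfsg.Agent.ClassicalGeometry.SympIso
import Cfsg.Agent.H194.NilFormD

/-!
# The discriminant class of a quadratic space over a finite field of odd order (helper160)

* `dc Q : ℤ` the quadratic character of the Gram determinant;
* `dc_prod`, `dc_iso`, `dc_smul`;
* `exists_iso` : nondegenerate spaces of the same dimension and class are isometric;
* `exists_form` : all classes occur in positive dimension;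
* `spin_neg_one`: the spinor sign of `-1` in even dimension is the class.
* `dc_mul_skew` : for an isometry `g` the class is the quadratic character of `det (g - g⁻¹)` (if nonzero).
-/

set_option autoImplicit false

namespace Cfsg.Agent.H160.QDisc

open QuadraticMap Module
open Cfsg.Agent.LieClassical.OrthCore Cfsg.Agent.H160.QSpin

variable {F V W : Type*} [Field F] [AddCommGroup V] [Module F V] [AddCommGroup W] [Module F W]

theorem nondeg_bilin {Q : QuadraticForm F V} (hQ : Nondeg Q) :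
    LinearMap.BilinForm.Nondegenerate (polarBilin Q) :=
  ⟨fun x hx => hQ x hx, fun x hx => hQ x fun y => by rw [polar_comm]; exact hx y⟩

theorem isSymm_bilin (Q : QuadraticForm F V) : LinearMap.BilinForm.IsSymm (polarBilin Q) :=
  ⟨fun x y => by
    show polar Q x y = polar Q y x
    exact polar_comm _ _ _⟩

theorem two_mul_Q (Q : QuadraticForm F V) (x : V) : 2 * Q x = polarBilin Q x x := by
  show 2 * Q x = polar Q x x
  rw [polar_self']

theorem isIso_of_polar (h2 : (2 : F) ≠ 0) {Q : QuadraticForm F V} {Q' : QuadraticForm F W} {e : V ≃ₗ[F] W}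
    (h : ∀ x y, polar Q' (e x) (e y) = polar Q x y) : IsIso Q Q' e := by
  intro x
  apply mul_left_cancel₀ h2
  rw [two_mul_Q, two_mul_Q]
  exact h x x

section Gram

variable [FiniteDimensional F V] [FiniteDimensional F W]

/-- the Gram determinant -/
noncomputable def gdet (Q : QuadraticForm F V) : F :=
  (LinearMap.BilinForm.toMatrix (finBasis F V) (polarBilin Q)).det

theorem gdet_ne {Q : QuadraticForm F V} (hQ : Nondeg Q) : gdet Q ≠ 0 :=
  (LinearMap.BilinForm.nondegenerate_iff_det_ne_zero _).1 (nondeg_bilin hQ)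

variable [Fintype F] [DecidableEq F]

theorem qc_sq_mul {s : F} (hs : s ≠ 0) (a : F) : quadraticChar F (s ^ 2 * a) = quadraticChar F a := by
  rw [map_mul, quadraticChar_sq_one' hs, one_mul]

/-- the class -/
noncomputable def dc (Q : QuadraticForm F V) : ℤ := quadraticChar F (gdet Q)

theorem dc_eq {ι : Type*} [Fintype ι] [DecidableEq ι] (b : Basis ι F V) (Q : QuadraticForm F V) :
    dc Q = quadraticChar F (LinearMap.BilinForm.toMatrix b (polarBilin Q)).det := by
  obtain ⟨s, hs, h⟩ := ClassicalGeometry.Discriminant.det_toMatrix_change (finBasis F V) b (polarBilin Q)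
  rw [h, qc_sq_mul hs]
  rfl

theorem dc_cases {Q : QuadraticForm F V} (hQ : Nondeg Q) : dc Q = 1 ∨ dc Q = -1 :=
  quadraticChar_dichotomy (gdet_ne hQ)

theorem dc_iso {Q : QuadraticForm F V} {Q' : QuadraticForm F W} {e : V ≃ₗ[F] W} (he : IsIso Q Q' e) :
    dc Q' = dc Q := by
  rw [dc_eq ((finBasis F V).map e) Q']
  unfold dc gdet
  congr 2
  ext i j
  rw [LinearMap.BilinForm.toMatrix_apply, LinearMap.BilinForm.toMatrix_apply, Basis.map_apply, Basis.map_apply]
  exact he.polar _ _

theorem dc_prod (Q₁ : QuadraticForm F V) (Q₂ : QuadraticForm F W) : dc (Q₁.prod Q₂) = dc Q₁ * dc Q₂ := by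
  rw [dc_eq ((finBasis F V).prod (finBasis F W))]
  unfold dc gdet
  rw [← map_mul]
  congr 1
  have h : LinearMap.BilinForm.toMatrix ((finBasis F V).prod (finBasis F W)) (polarBilin (Q₁.prod Q₂)) =
      Matrix.fromBlocks (LinearMap.BilinForm.toMatrix (finBasis F V) (polarBilin Q₁)) 0 0
        (LinearMap.BilinForm.toMatrix (finBasis F W) (polarBilin Q₂)) := by
    ext (i | i) (j | j)
    · rw [LinearMap.BilinForm.toMatrix_apply, Matrix.fromBlocks_apply₁₁, LinearMap.BilinForm.toMatrix_apply]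
      simp only [polarBilin_apply_apply, polar_pr, Basis.prod_apply, Sum.elim_inl, Function.comp_apply,
        LinearMap.inl_apply, polar_zero_right, add_zero]
    · rw [LinearMap.BilinForm.toMatrix_apply, Matrix.fromBlocks_apply₁₂]
      simp [polarBilin_apply_apply, Basis.prod_apply]
    · rw [LinearMap.BilinForm.toMatrix_apply, Matrix.fromBlocks_apply₂₁]
      simp [polarBilin_apply_apply, Basis.prod_apply]
    · rw [LinearMap.BilinForm.toMatrix_apply, Matrix.fromBlocks_apply₂₂, LinearMap.BilinForm.toMatrix_apply]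
      simp only [polarBilin_apply_apply, polar_pr, Basis.prod_apply, Sum.elim_inr, Function.comp_apply,
        LinearMap.inr_apply, polar_zero_right, zero_add]
  rw [h, Matrix.det_fromBlocks_zero₂₁]

theorem dc_smul (c : F) (Q : QuadraticForm F V) : dc (c • Q) = quadraticChar F c ^ finrank F V * dc Q := by
  unfold dc gdet
  rw [← map_pow, ← map_mul]
  congr 1
  have h : LinearMap.BilinForm.toMatrix (finBasis F V) (polarBilin (c • Q)) =
      c • LinearMap.BilinForm.toMatrix (finBasis F V) (polarBilin Q) := by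
    ext i j
    rw [Matrix.smul_apply, LinearMap.BilinForm.toMatrix_apply, LinearMap.BilinForm.toMatrix_apply]
    simp only [polarBilin_apply_apply, smul_eq_mul, QuadraticMap.polar, _root_.smul_apply]
    ring
  rw [h, Matrix.det_smul, Fintype.card_fin]

omit [Fintype F] [DecidableEq F] in
theorem exists_prod_eq {n : ℕ} (δ : F) (hδ : δ ≠ 0) (h0 : n = 0 → δ = 1) :
    ∃ c : Fin n → F, (∀ i, c i ≠ 0) ∧ ∏ i, c i = δ := by
  cases n with
  | zero => exact ⟨fun _ => 1, fun i => i.elim0, by simp [h0 rfl]⟩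
  | succ n =>
    refine ⟨Fin.cons δ (fun _ => 1), ?_, ?_⟩
    · intro i
      refine Fin.cases ?_ (fun i => ?_) i
      · simpa using hδ
      · simp
    · rw [Fin.prod_univ_succ]; simp

omit [FiniteDimensional F W] [Fintype F] [DecidableEq F] in
theorem gdet_of_zero (Q : QuadraticForm F V) (h : finrank F V = 0) : gdet Q = 1 := by
  unfold gdet
  have : IsEmpty (Fin (finrank F V)) := by rw [h]; infer_instance
  exact Matrix.det_isEmpty

/-- nondegenerate quadratic spaces of the same dimension and the same class are isometric -/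
theorem exists_iso (h2 : (2 : F) ≠ 0) {Q : QuadraticForm F V} {Q' : QuadraticForm F W} (hQ : Nondeg Q)
    (hQ' : Nondeg Q') (hd : finrank F V = finrank F W) (hc : dc Q = dc Q') : ∃ e : V ≃ₗ[F] W, IsIso Q Q' e := by
  obtain ⟨c, hc0, hcp⟩ := exists_prod_eq (n := finrank F V) (gdet Q) (gdet_ne hQ) (gdet_of_zero Q)
  obtain ⟨v, hv⟩ := ClassicalGeometry.Discriminant.exists_basis_diag h2 (polarBilin Q) (isSymm_bilin Q)
    (nondeg_bilin hQ) (finBasis F V) c (by simp) hc0 1 (by rw [hcp, one_pow, one_mul]; rfl)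
  have hsq : IsSquare (gdet Q' / gdet Q) := by
    rw [← quadraticChar_one_iff_isSquare (div_ne_zero (gdet_ne hQ') (gdet_ne hQ))]
    have h1 : gdet Q' = gdet Q' / gdet Q * gdet Q := (div_mul_cancel₀ _ (gdet_ne hQ)).symm
    have h3 : quadraticChar F (gdet Q') = quadraticChar F (gdet Q' / gdet Q) * quadraticChar F (gdet Q) := by
      rw [← map_mul, ← h1]
    have h4 : quadraticChar F (gdet Q) = quadraticChar F (gdet Q') := hc
    rcases dc_cases hQ with h5 | h5
    · have h5' : quadraticChar F (gdet Q) = 1 := h5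
      rw [← h4, h5'] at h3; linarith
    · have h5' : quadraticChar F (gdet Q) = -1 := h5
      rw [← h4, h5'] at h3; linarith
  obtain ⟨t, ht⟩ := hsq
  obtain ⟨w, hw⟩ := ClassicalGeometry.Discriminant.exists_basis_diag h2 (polarBilin Q') (isSymm_bilin Q')
    (nondeg_bilin hQ') (finBasis F W) c (by simp [hd]) hc0 t (by
      rw [hcp, pow_two, ← ht, div_mul_cancel₀ _ (gdet_ne hQ)]; rfl)
  refine ⟨v.equiv w (Equiv.refl _), isIso_of_polar h2 ?_⟩
  have h5 : LinearMap.BilinForm.comp (polarBilin Q') (v.equiv w (Equiv.refl _) : V →ₗ[F] W)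
      (v.equiv w (Equiv.refl _) : V →ₗ[F] W) = polarBilin Q := by
    apply LinearMap.BilinForm.ext_basis v
    intro i j
    rw [LinearMap.BilinForm.comp_apply, LinearEquiv.coe_coe, Basis.equiv_apply, Basis.equiv_apply, hv]
    exact hw i j
  intro x y
  exact congrArg (fun B : LinearMap.BilinForm F V => B x y) h5

/-! ### Existence of forms -/

/-- the one-dimensional form `c x²` -/
noncomputable def oneF (c : F) : QuadraticForm F F := c • QuadraticMap.sq

omit [Fintype F] [DecidableEq F] in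
theorem oneF_apply (c x : F) : oneF c x = c * (x * x) := rfl

omit [Fintype F] [DecidableEq F] in
theorem polar_oneF (c x y : F) : polar (oneF c) x y = 2 * c * (x * y) := by
  simp only [QuadraticMap.polar, oneF_apply]
  ring

omit [Fintype F] [DecidableEq F] in
theorem nondeg_oneF (h2 : (2 : F) ≠ 0) {c : F} (hc : c ≠ 0) : Nondeg (oneF c) := by
  intro x hx
  have := hx 1
  rw [polar_oneF, mul_one] at this
  exact (mul_eq_zero.1 this).resolve_left (mul_ne_zero h2 hc)

theorem dc_oneF (c : F) : dc (oneF c) = quadraticChar F (2 * c) := by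
  rw [dc_eq (Basis.singleton Unit F)]
  congr 1
  rw [Matrix.det_unique, LinearMap.BilinForm.toMatrix_apply, Basis.singleton_apply]
  show polar (oneF c) 1 1 = _
  rw [polar_oneF]
  ring

omit [FiniteDimensional F V] [FiniteDimensional F W] in
theorem exists_qc (h2 : (2 : F) ≠ 0) {d : ℤ} (hd : d = 1 ∨ d = -1) : ∃ c : F, c ≠ 0 ∧ quadraticChar F c = d := by
  rcases hd with rfl | rfl
  · exact ⟨1, one_ne_zero, by simp⟩
  · have hchar : ringChar F ≠ 2 := by
      intro h
      apply h2
      have := ringChar.spec F 2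
      rw [h] at this
      exact_mod_cast this.2 dvd_rfl
    obtain ⟨a, ha⟩ := quadraticChar_exists_neg_one hchar
    refine ⟨a, ?_, ha⟩
    rintro rfl
    simp at ha

omit [FiniteDimensional F V] [FiniteDimensional F W] in
theorem exists_oneF (h2 : (2 : F) ≠ 0) {d : ℤ} (hd : d = 1 ∨ d = -1) :
    ∃ c : F, c ≠ 0 ∧ dc (oneF c) = d := by
  obtain ⟨c, hc, h⟩ := exists_qc h2 hd
  refine ⟨2⁻¹ * c, mul_ne_zero (inv_ne_zero h2) hc, ?_⟩
  rw [dc_oneF, mul_inv_cancel_left₀ h2, h]

omit [Fintype F] [DecidableEq F] in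
/-- transport to `Fin n → F` -/
theorem exists_fin (Q : QuadraticForm F V) {n : ℕ} (hn : finrank F V = n) :
    ∃ (Q' : QuadraticForm F (Fin n → F)) (e : V ≃ₗ[F] (Fin n → F)), IsIso Q Q' e := by
  subst hn
  exact exists_iso_fin Q

theorem exists_form (h2 : (2 : F) ≠ 0) {d : ℤ} (hd : d = 1 ∨ d = -1) (n : ℕ) :
    ∃ Q : QuadraticForm F (Fin (n + 1) → F), Nondeg Q ∧ dc Q = d := by
  induction n generalizing d with
  | zero =>
    obtain ⟨c, hc, h⟩ := exists_oneF (F := F) h2 hd
    obtain ⟨Q', e, he⟩ := exists_fin (oneF c) (n := 0 + 1) (by simp)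
    exact ⟨Q', he.nondeg (nondeg_oneF h2 hc), by rw [dc_iso he, h]⟩
  | succ n ih =>
    obtain ⟨Q₁, hQ₁, hd₁⟩ := ih hd
    obtain ⟨c, hc, h⟩ := exists_oneF (F := F) h2 (d := 1) (Or.inl rfl)
    obtain ⟨Q', e, he⟩ := exists_fin (Q₁.prod (oneF c)) (n := n + 1 + 1) (by simp)
    refine ⟨Q', he.nondeg (nondeg_prod hQ₁ (nondeg_oneF h2 hc)), ?_⟩
    rw [dc_iso he, dc_prod, hd₁, h, mul_one]

/-! ### The spinor sign of `-1` -/

omit [FiniteDimensional F V] [FiniteDimensional F W] [Fintype F] [DecidableEq F] in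
theorem neg_mem_O (Q : QuadraticForm F V) : LinearEquiv.neg F ∈ O Q := by
  intro v
  rw [LinearEquiv.neg_apply, QuadraticMap.map_neg]

omit [FiniteDimensional F V] [FiniteDimensional F W] [Fintype F] [DecidableEq F] in
theorem cj_neg (e : V ≃ₗ[F] W) : cj e (LinearEquiv.neg F) = LinearEquiv.neg F := by
  ext w
  rw [cj_apply, LinearEquiv.neg_apply, LinearEquiv.neg_apply, map_neg, LinearEquiv.apply_symm_apply]

omit [FiniteDimensional F V] [FiniteDimensional F W] [Fintype F] [DecidableEq F] in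
theorem pr_neg : pr (LinearEquiv.neg F : V ≃ₗ[F] V) (LinearEquiv.neg F : W ≃ₗ[F] W) = LinearEquiv.neg F := rfl

theorem spin_refl_int [Finite V] (h2 : (2 : F) ≠ 0) {Q : QuadraticForm F V} {v : V} (hv : Q v ≠ 0) :
    ((spin Q ⟨refl Q v hv, refl_mem_O hv⟩ : ℤˣ) : ℤ) = - quadraticChar F (Q v) := by
  classical
  rw [spin_refl h2]
  split_ifs with h
  · rw [(quadraticChar_one_iff_isSquare hv).2 h]; rfl
  · rw [quadraticChar_neg_one_iff_not_isSquare.2 h]; rfl

theorem spin_neg_one_aux (h2 : (2 : F) ≠ 0) (n : ℕ) : ∀ (Q : QuadraticForm F (Fin n → F)), Nondeg Q →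
    ((spin Q ⟨LinearEquiv.neg F, neg_mem_O Q⟩ : ℤˣ) : ℤ) = (- quadraticChar F 2) ^ n * dc Q := by
  have hone : ∀ c : F, c ≠ 0 → ((spin (oneF c) ⟨LinearEquiv.neg F, neg_mem_O _⟩ : ℤˣ) : ℤ) =
      (- quadraticChar F 2) * dc (oneF c) := by
    intro c hc
    have hv : (oneF c) (1 : F) ≠ 0 := by rw [oneF_apply]; simpa using hc
    have h3 : (⟨LinearEquiv.neg F, neg_mem_O (oneF c)⟩ : O (oneF c)) = ⟨refl (oneF c) 1 hv, refl_mem_O hv⟩ := by
      apply Subtype.ext
      ext1 x
      rw [refl_apply, polar_oneF, oneF_apply]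
      show -x = _
      simp only [smul_eq_mul]
      field_simp
      ring
    rw [h3, spin_refl_int h2, dc_oneF, oneF_apply, map_mul, map_mul, map_mul, map_one]
    have h4 : quadraticChar F 2 * quadraticChar F 2 = 1 := by
      rw [← pow_two, quadraticChar_sq_one h2]
    linear_combination (quadraticChar F c) * h4
  induction n with
  | zero =>
    intro Q hQ
    have h1 : (⟨LinearEquiv.neg F, neg_mem_O Q⟩ : O Q) = 1 := by
      apply Subtype.ext
      ext1 x
      exact Subsingleton.elim _ _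
    rw [h1, map_one]
    have h3 : dc Q = 1 := by
      unfold dc
      rw [gdet_of_zero Q (by simp)]
      simp
    rw [h3]
    simp
  | succ n ih =>
    intro Q hQ
    -- split off a line
    rcases Nat.eq_zero_or_pos n with rfl | hn
    · obtain ⟨c, hc, h⟩ := exists_oneF (F := F) h2 (dc_cases hQ)
      obtain ⟨e, he⟩ := exists_iso h2 (nondeg_oneF h2 hc) hQ (by simp) h
      have h3 := spin_cj he (neg_mem_O _)
      have h4 : (⟨cj e (LinearEquiv.neg F), cj_mem_O he (neg_mem_O _)⟩ : O Q) = ⟨LinearEquiv.neg F, neg_mem_O Q⟩ :=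
        Subtype.ext (cj_neg e)
      rw [h4] at h3
      rw [h3, hone c hc, h]
      simp
    · obtain ⟨m, rfl⟩ := Nat.exists_eq_succ_of_ne_zero hn.ne'
      obtain ⟨c, hc, h⟩ := exists_oneF (F := F) h2 (d := 1) (Or.inl rfl)
      obtain ⟨Q₁, hQ₁, hd₁⟩ := exists_form h2 (dc_cases hQ) m
      obtain ⟨e, he⟩ := exists_iso h2 (nondeg_prod hQ₁ (nondeg_oneF h2 hc)) hQ (by simp)
        (by rw [dc_prod, hd₁, h, mul_one])
      have h3 := spin_cj he (neg_mem_O _)
      have h4 : (⟨cj e (LinearEquiv.neg F), cj_mem_O he (neg_mem_O _)⟩ : O Q) = ⟨LinearEquiv.neg F, neg_mem_O Q⟩ :=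
        Subtype.ext (cj_neg e)
      rw [h4] at h3
      have h5 := spin_pr h2 hQ₁ (nondeg_oneF h2 hc) (neg_mem_O Q₁) (neg_mem_O (oneF c))
      have h6 : (⟨pr (LinearEquiv.neg F) (LinearEquiv.neg F), pr_mem_O (neg_mem_O Q₁) (neg_mem_O (oneF c))⟩ :
        O (Q₁.prod (oneF c))) = ⟨LinearEquiv.neg F, neg_mem_O _⟩ := Subtype.ext pr_neg
      rw [h6] at h5
      rw [h3, h5, Units.val_mul, ih Q₁ hQ₁, hone c hc, h, hd₁]
      ring

/-- the spinor sign of `-1` in even dimension is the class -/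
theorem spin_neg_one [Finite V] (h2 : (2 : F) ≠ 0) {Q : QuadraticForm F V} (hQ : Nondeg Q)
    (he : Even (finrank F V)) : ((spin Q ⟨LinearEquiv.neg F, neg_mem_O Q⟩ : ℤˣ) : ℤ) = dc Q := by
  obtain ⟨Q', e, hee⟩ := exists_iso_fin Q
  have h3 := spin_cj hee (neg_mem_O _)
  have h4 : (⟨cj e (LinearEquiv.neg F), cj_mem_O hee (neg_mem_O _)⟩ : O Q') = ⟨LinearEquiv.neg F, neg_mem_O Q'⟩ :=
    Subtype.ext (cj_neg e)
  rw [h4] at h3
  rw [← h3, spin_neg_one_aux h2 _ Q' (hee.nondeg hQ), dc_iso hee]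
  obtain ⟨k, hk⟩ := he
  have h5 : quadraticChar F 2 * quadraticChar F 2 = 1 := by
    rw [← pow_two, quadraticChar_sq_one h2]
  rw [hk, ← two_mul, pow_mul, pow_two, neg_mul_neg, h5, one_pow, one_mul]

omit [FiniteDimensional F W] [Fintype F] [DecidableEq F] in
theorem det_neg_even (he : Even (finrank F V)) : LinearEquiv.det (LinearEquiv.neg F : V ≃ₗ[F] V) = 1 := by
  apply Units.ext
  rw [LinearEquiv.coe_det]
  have h : ((LinearEquiv.neg F : V ≃ₗ[F] V) : V →ₗ[F] V) = (-1 : F) • LinearMap.id := by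
    ext x
    simp
  rw [h, LinearMap.det_smul, LinearMap.det_id, he.neg_one_pow]
  simp

/-- `-1` in even dimension -/
theorem el_neg [Finite V] (h2 : (2 : F) ≠ 0) {Q : QuadraticForm F V} (hQ : Nondeg Q)
    (he : Even (finrank F V)) {s : ℤˣ} (hs : (s : ℤ) = dc Q) : El Q s (LinearEquiv.neg F) :=
  ⟨neg_mem_O Q, det_neg_even he, Units.ext (by rw [spin_neg_one h2 hQ he, hs])⟩

/-! ### Skew forms -/

omit [FiniteDimensional F W] [Fintype F] [DecidableEq F] in
/-- the Gram determinant of a nondegenerate alternating form is a square -/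
theorem isSquare_det_of_isAlt (A : LinearMap.BilinForm F V) (hA : A.IsAlt)
    (hnd : ∀ u, (∀ v, A u v = 0) → u = 0) {ι : Type*} [Fintype ι] [DecidableEq ι] (b : Basis ι F V) :
    IsSquare (LinearMap.BilinForm.toMatrix b A).det := by
  obtain ⟨k, hk⟩ := Cfsg.Agent.H194.NilForm.even_of_isAlt A hA hnd
  obtain ⟨e, he⟩ := ClassicalGeometry.SympIso.exists_linearEquiv_sympForm A hA hnd hk
  obtain ⟨s, hs, h⟩ := ClassicalGeometry.Discriminant.det_toMatrix_change
    ((Pi.basisFun F (Fin k ⊕ Fin k)).map e) b A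
  have h1 : LinearMap.BilinForm.toMatrix ((Pi.basisFun F (Fin k ⊕ Fin k)).map e) A =
      Matrix.fromBlocks 0 (-1) 1 0 := by
    ext i j
    rw [LinearMap.BilinForm.toMatrix_apply, Basis.map_apply, Basis.map_apply, he,
      ClassicalGeometry.SympBasic.sympForm_def]
    simp only [Pi.basisFun_apply, Matrix.mulVec_single_one, single_one_dotProduct]
    rfl
  rw [h, h1, ClassicalGeometry.Discriminant.det_fromBlocks_zero_left, Matrix.det_one, mul_one, Matrix.det_neg,
    Matrix.det_one, mul_one, Fintype.card_fin, ← mul_pow, neg_one_mul, neg_neg, one_pow, mul_one]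
  exact ⟨s, pow_two s⟩

/-- **The class and `g - g⁻¹`.** -/
theorem dc_eq_of_skew {Q : QuadraticForm F V} (hQ : Nondeg Q) {g : V ≃ₗ[F] V} (hg : g ∈ O Q)
    (hdet : LinearMap.det ((g : V →ₗ[F] V) - ((g⁻¹ : V ≃ₗ[F] V) : V →ₗ[F] V)) ≠ 0) :
    dc Q = quadraticChar F (LinearMap.det ((g : V →ₗ[F] V) - ((g⁻¹ : V ≃ₗ[F] V) : V →ₗ[F] V))) := by
  set S : V →ₗ[F] V := (g : V →ₗ[F] V) - ((g⁻¹ : V ≃ₗ[F] V) : V →ₗ[F] V) with hS
  let b := finBasis F V
  let A : LinearMap.BilinForm F V := LinearMap.BilinForm.compRight (polarBilin Q) S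
  have hAap : ∀ x y, A x y = polar Q x (g y) - polar Q x (g⁻¹ y) := by
    intro x y
    show polar Q x (g y - g⁻¹ y) = _
    rw [polar_sub_right]
  have hA : A.IsAlt := by
    intro x
    rw [hAap]
    have h1 : polar Q x (g⁻¹ x) = polar Q (g x) x := by
      rw [← polar_map hg]
      congr 1
      exact g.apply_symm_apply x
    rw [h1, polar_comm Q (g x) x, sub_self]
  have hSsurj : Function.Surjective S := by
    have h1 : IsUnit S := (LinearMap.isUnit_iff_isUnit_det S).2 (isUnit_iff_ne_zero.2 hdet)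
    exact ((Module.End.isUnit_iff S).1 h1).2
  have hnd : ∀ u, (∀ v, A u v = 0) → u = 0 := by
    intro u hu
    apply hQ
    intro y
    obtain ⟨v, rfl⟩ := hSsurj y
    exact hu v
  have h1 := isSquare_det_of_isAlt A hA hnd b
  have h2 : LinearMap.BilinForm.toMatrix b A =
      LinearMap.BilinForm.toMatrix b (polarBilin Q) * LinearMap.toMatrix b b S :=
    LinearMap.BilinForm.toMatrix_compRight b (polarBilin Q) S
  rw [h2, Matrix.det_mul, LinearMap.det_toMatrix] at h1
  have h3 := (quadraticChar_one_iff_isSquare (mul_ne_zero (gdet_ne hQ) hdet)).2 h1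
  rw [map_mul] at h3
  have h4 : dc Q * quadraticChar F (LinearMap.det S) = 1 := h3
  rcases dc_cases hQ with h5 | h5
  · rw [h5] at h4 ⊢; linarith
  · rw [h5] at h4 ⊢; linarith

end Gram

end Cfsg.Agent.H160.QDisc
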