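import Mathlib
import Cfsg.Agent.H160.QDisc

/-!
# Splitting off the unipotent part of an isometry (helper160)

* `split_of_compl` : an invariant orthogonal decomposition;
* `split` : `V = V₁ ⊥ V₂`, no eigenvalue one on `V₁`, unipotent on `V₂`;
* `det_of_no_one` : an isometry without eigenvalue one has determinant `(-1) ^ n`;
* `dc_of_no_pm` : the class of a space with an isometry without eigenvalues `±1`;
* `unip_even` : unipotent isometries in even dimension `n` satisfy `(u - 1) ^ (n - 1) = 0`.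
-/

set_option autoImplicit false

namespace Cfsg.Agent.H160.QSplit

open QuadraticMap Module
open Cfsg.Agent.LieClassical.OrthCore Cfsg.Agent.H160.QSpin Cfsg.Agent.H160.QDisc

variable {F V : Type*} [Field F] [AddCommGroup V] [Module F V] [FiniteDimensional F V]

/-- an isometry as an endomorphism -/
abbrev en (g : V ≃ₗ[F] V) : Module.End F V := (g : V →ₗ[F] V)

omit [FiniteDimensional F V] in
theorem en_mul (g h : V ≃ₗ[F] V) : en (g * h) = en g * en h := rfl

omit [FiniteDimensional F V] in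
theorem en_pow (g : V ≃ₗ[F] V) (n : ℕ) : en (g ^ n) = en g ^ n := by
  induction n with
  | zero => rfl
  | succ n ih => rw [pow_succ, pow_succ, en_mul, ih]

omit [FiniteDimensional F V] in
theorem en_inj {g h : V ≃ₗ[F] V} (h1 : en g = en h) : g = h := by
  ext v
  exact LinearMap.congr_fun h1 v

omit [FiniteDimensional F V] in
theorem en_inv_mul (g : V ≃ₗ[F] V) : en g⁻¹ * en g = 1 := by
  rw [← en_mul, inv_mul_cancel]; rfl

omit [FiniteDimensional F V] in
theorem en_mul_inv (g : V ≃ₗ[F] V) : en g * en g⁻¹ = 1 := by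
  rw [← en_mul, mul_inv_cancel]; rfl

omit [FiniteDimensional F V] in
theorem polar_inv {Q : QuadraticForm F V} {g : V ≃ₗ[F] V} (hg : g ∈ O Q) (x y : V) :
    polar Q (g x) y = polar Q x (g⁻¹ y) := by
  rw [← polar_map hg x]
  congr 1
  exact (g.apply_symm_apply y).symm

omit [FiniteDimensional F V] in
/-- the adjoint of `g - 1` -/
theorem polar_sub_one {Q : QuadraticForm F V} {g : V ≃ₗ[F] V} (hg : g ∈ O Q) (x y : V) :
    polar Q ((en g - 1) x) y = polar Q x ((en g⁻¹ - 1) y) := by
  rw [LinearMap.sub_apply, LinearMap.sub_apply, polar_sub_left, polar_sub_right]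
  congr 1
  exact polar_inv hg x y

omit [FiniteDimensional F V] in
theorem polar_sub_one_pow {Q : QuadraticForm F V} {g : V ≃ₗ[F] V} (hg : g ∈ O Q) (n : ℕ) (x y : V) :
    polar Q (((en g - 1) ^ n) x) y = polar Q x (((en g⁻¹ - 1) ^ n) y) := by
  induction n generalizing x y with
  | zero => rfl
  | succ n ih =>
    rw [pow_succ', Module.End.mul_apply, polar_sub_one hg, ih, pow_succ, Module.End.mul_apply]

omit [FiniteDimensional F V] in
/-- `(g⁻¹ - 1) ^ n = (-1) ^ n g^{-n} (g - 1) ^ n` -/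
theorem inv_sub_one_pow (g : V ≃ₗ[F] V) (n : ℕ) :
    (en g⁻¹ - 1) ^ n = (-1) ^ n * (en g⁻¹) ^ n * (en g - 1) ^ n := by
  have h1 : en g⁻¹ - 1 = (-1) * (en g⁻¹ * (en g - 1)) := by
    rw [mul_sub, en_inv_mul, mul_one, neg_one_mul, neg_sub]
  have hc : Commute (en g⁻¹) (en g - 1) := by
    show en g⁻¹ * (en g - 1) = (en g - 1) * en g⁻¹
    rw [mul_sub, sub_mul, en_inv_mul, en_mul_inv, mul_one, one_mul]
  rw [h1, (Commute.neg_one_left _).mul_pow, hc.mul_pow, mul_assoc]

/-- an invariant orthogonal decomposition -/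
theorem split_of_compl {Q : QuadraticForm F V} {g : V ≃ₗ[F] V} {W₁ W₂ : Submodule F V}
    (hc : IsCompl W₁ W₂) (ho : ∀ x ∈ W₁, ∀ y ∈ W₂, polar Q x y = 0) (h1 : ∀ x ∈ W₁, g x ∈ W₁)
    (h2 : ∀ x ∈ W₂, g x ∈ W₂) :
    ∃ (g₁ : W₁ ≃ₗ[F] W₁) (g₂ : W₂ ≃ₗ[F] W₂) (e : (W₁ × W₂) ≃ₗ[F] V),
      IsIso ((Q.comp W₁.subtype).prod (Q.comp W₂.subtype)) Q e ∧ g = cj e (pr g₁ g₂) ∧
      (∀ x, (g₁ x : V) = g x) ∧ (∀ x, (g₂ x : V) = g x) := by
  let f₁ : W₁ →ₗ[F] W₁ := (g : V →ₗ[F] V).restrict h1
  let f₂ : W₂ →ₗ[F] W₂ := (g : V →ₗ[F] V).restrict h2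
  have hf₁ : Function.Injective f₁ := by
    intro x y hxy
    apply Subtype.ext
    apply g.injective
    exact congrArg Subtype.val hxy
  have hf₂ : Function.Injective f₂ := by
    intro x y hxy
    apply Subtype.ext
    apply g.injective
    exact congrArg Subtype.val hxy
  let g₁ := LinearEquiv.ofInjectiveEndo f₁ hf₁
  let g₂ := LinearEquiv.ofInjectiveEndo f₂ hf₂
  have hg₁ : ∀ x, (g₁ x : V) = g x := fun x => rfl
  have hg₂ : ∀ x, (g₂ x : V) = g x := fun x => rfl
  refine ⟨g₁, g₂, Submodule.prodEquivOfIsCompl W₁ W₂ hc, ?_, ?_, hg₁, hg₂⟩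
  · intro x
    rw [Submodule.coe_prodEquivOfIsCompl', Qpr_apply, Q_add, ho _ x.1.2 _ x.2.2, add_zero]
    rfl
  · ext v
    obtain ⟨x, rfl⟩ := (Submodule.prodEquivOfIsCompl W₁ W₂ hc).surjective v
    rw [cj_apply', pr_apply, Submodule.coe_prodEquivOfIsCompl', Submodule.coe_prodEquivOfIsCompl', map_add, hg₁, hg₂]

/-- Fitting decomposition of `g - 1` -/
theorem fitting (f : Module.End F V) :
    IsCompl (LinearMap.range (f ^ finrank F V)) (LinearMap.ker (f ^ finrank F V)) := by
  have hd : Disjoint (LinearMap.range (f ^ finrank F V)) (LinearMap.ker (f ^ finrank F V)) := by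
    rw [Submodule.disjoint_def]
    rintro _ ⟨y, rfl⟩ hy
    rw [LinearMap.mem_ker, ← Module.End.mul_apply, ← pow_add] at hy
    have h1 := Module.End.ker_pow_eq_ker_pow_finrank_of_le (f := f) (m := finrank F V + finrank F V) (by omega)
    have h2 : y ∈ LinearMap.ker (f ^ (finrank F V + finrank F V)) := hy
    rw [h1] at h2
    exact h2
  rw [Submodule.isCompl_iff_disjoint _ _ ?_]
  · exact hd
  · rw [LinearMap.finrank_range_add_finrank_ker]

/-- **Splitting off the unipotent part.** -/
theorem split {Q : QuadraticForm F V} {g : V ≃ₗ[F] V} (hg : g ∈ O Q) :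
    ∃ (n₁ n₂ : ℕ) (Q₁ : QuadraticForm F (Fin n₁ → F)) (Q₂ : QuadraticForm F (Fin n₂ → F))
      (g₁ : (Fin n₁ → F) ≃ₗ[F] (Fin n₁ → F)) (g₂ : (Fin n₂ → F) ≃ₗ[F] (Fin n₂ → F))
      (e : ((Fin n₁ → F) × (Fin n₂ → F)) ≃ₗ[F] V),
      IsIso (Q₁.prod Q₂) Q e ∧ g = cj e (pr g₁ g₂) ∧ (∀ x, g₁ x = x → x = 0) ∧
      (en g₂ - 1) ^ n₂ = 0 := by
  set n := finrank F V with hn
  have hcompl := fitting (en g - 1)
  rw [← hn] at hcompl
  have hcomm : Commute (en g) ((en g - 1) ^ n) :=
    ((Commute.refl _).sub_right (Commute.one_right _)).pow_right n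
  have hcap : ∀ x, g (((en g - 1) ^ n) x) = ((en g - 1) ^ n) (g x) := fun x => LinearMap.congr_fun hcomm x
  obtain ⟨W₁, hW₁⟩ : ∃ W, W = LinearMap.range ((en g - 1) ^ n) := ⟨_, rfl⟩
  obtain ⟨W₂, hW₂⟩ : ∃ W, W = LinearMap.ker ((en g - 1) ^ n) := ⟨_, rfl⟩
  rw [← hW₁, ← hW₂] at hcompl
  obtain ⟨g₁, g₂, e, he, hge, hg₁, hg₂⟩ := split_of_compl (Q := Q) (g := g) hcompl (by
      rw [hW₁, hW₂]
      rintro _ ⟨x, rfl⟩ y hy
      rw [polar_sub_one_pow hg, inv_sub_one_pow, Module.End.mul_apply, LinearMap.mem_ker.1 hy, map_zero,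
        polar_zero_right]) (by
      rw [hW₁]
      rintro _ ⟨x, rfl⟩
      exact ⟨g x, (hcap x).symm⟩) (by
      rw [hW₂]
      intro x hx
      rw [LinearMap.mem_ker] at hx ⊢
      rw [← hcap, hx, map_zero])
  let b₁ := (finBasis F W₁).equivFun
  let b₂ := (finBasis F W₂).equivFun
  have hno : ∀ x : W₁, g₁ x = x → x = 0 := by
    intro x hx
    have hx2 : (en g - 1) (x : V) = 0 := by
      rw [LinearMap.sub_apply, Module.End.one_apply, sub_eq_zero]
      have := congrArg Subtype.val hx
      rwa [hg₁] at this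
    have hx3 : (x : V) ∈ W₂ := by
      rw [hW₂, LinearMap.mem_ker]
      rcases Nat.eq_zero_or_pos n with h0 | h0
      · have : Subsingleton V := Module.finrank_zero_iff.1 (hn ▸ h0)
        exact Subsingleton.elim _ _
      · obtain ⟨m, hm⟩ := Nat.exists_eq_succ_of_ne_zero h0.ne'
        rw [hm, pow_succ, Module.End.mul_apply, hx2, map_zero]
    exact Subtype.ext ((Submodule.disjoint_def.1 hcompl.disjoint) _ x.2 hx3)
  have hun : ∀ x : W₂, ((en g₂ - 1) ^ n) x = 0 := by
    intro x
    have key : ∀ k : ℕ, ((((en g₂ - 1) ^ k : Module.End F W₂) x : W₂) : V) = ((en g - 1) ^ k : Module.End F V) (x : V) := by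
      intro k
      induction k with
      | zero => rfl
      | succ k ih =>
        rw [pow_succ', Module.End.mul_apply, pow_succ', Module.End.mul_apply, ← ih]
        show ((g₂ (((en g₂ - 1) ^ k) x) - ((en g₂ - 1) ^ k) x : W₂) : V) = _
        rw [Submodule.coe_sub, hg₂]
        rfl
    apply Subtype.ext
    rw [key]
    have hW₂' : ∀ y ∈ W₂, ((en g - 1) ^ n) y = 0 := by
      intro y hy
      rw [hW₂] at hy
      exact hy
    exact hW₂' _ x.2
  refine ⟨finrank F W₁, finrank F W₂, (Q.comp W₁.subtype).comp (b₁.symm : _ →ₗ[F] W₁),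
    (Q.comp W₂.subtype).comp (b₂.symm : _ →ₗ[F] W₂), cj b₁ g₁, cj b₂ g₂, (b₁.prodCongr b₂).symm.trans e, ?_, ?_, ?_, ?_⟩
  · intro x
    rw [LinearEquiv.trans_apply, he]
    rfl
  · ext v
    obtain ⟨x, rfl⟩ := ((b₁.prodCongr b₂).symm.trans e).surjective v
    rw [cj_apply', pr_apply]
    conv_lhs => rw [hge, LinearEquiv.trans_apply, cj_apply']
    rw [LinearEquiv.trans_apply]
    congr 1
    rw [pr_apply]
    apply Prod.ext
    · show g₁ (b₁.symm x.1) = b₁.symm (cj b₁ g₁ x.1)
      rw [cj_apply, LinearEquiv.symm_apply_apply]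
    · show g₂ (b₂.symm x.2) = b₂.symm (cj b₂ g₂ x.2)
      rw [cj_apply, LinearEquiv.symm_apply_apply]
  · intro x hx
    rw [cj_apply] at hx
    have h3 : g₁ (b₁.symm x) = b₁.symm x := by
      apply b₁.injective
      rw [hx, LinearEquiv.apply_symm_apply]
    have h4 := hno _ h3
    exact b₁.symm.map_eq_zero_iff.1 h4
  · have hnil : (en g₂ - 1) ^ finrank F W₂ = 0 := by
      have h5 : IsNilpotent (en g₂ - 1) := ⟨n, LinearMap.ext hun⟩
      have h6 := Module.End.ker_pow_eq_ker_pow_finrank_of_le (f := en g₂ - 1) (m := max n (finrank F W₂))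
        (le_max_right _ _)
      have h7 : (en g₂ - 1) ^ max n (finrank F W₂) = 0 := pow_eq_zero_of_le (le_max_left _ _) (LinearMap.ext hun)
      rw [h7, LinearMap.ker_zero] at h6
      exact LinearMap.ker_eq_top.1 h6.symm
    have key : ∀ (k : ℕ) (x : W₂), ((en (cj b₂ g₂) - 1) ^ k) (b₂ x) = b₂ (((en g₂ - 1) ^ k) x) := by
      intro k
      induction k with
      | zero => intro x; rfl
      | succ k ih =>
        intro x
        rw [pow_succ', Module.End.mul_apply, pow_succ', Module.End.mul_apply, ih, LinearMap.sub_apply,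
          LinearMap.sub_apply, map_sub]
        congr 1
        exact cj_apply' b₂ g₂ _
    apply LinearMap.ext
    intro x
    obtain ⟨y, rfl⟩ := b₂.surjective x
    rw [key, hnil, LinearMap.zero_apply, map_zero, LinearMap.zero_apply]

/-- the determinant of an adjoint pair -/
theorem det_adj {Q : QuadraticForm F V} (hQ : Nondeg Q) {f f' : Module.End F V}
    (h : ∀ x y, polar Q (f x) y = polar Q x (f' y)) : LinearMap.det f = LinearMap.det f' := by
  classical
  let b := finBasis F V
  have h1 := LinearMap.BilinForm.toMatrix_compLeft b (polarBilin Q) f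
  have h2 := LinearMap.BilinForm.toMatrix_compRight b (polarBilin Q) f'
  have h3 : LinearMap.BilinForm.compLeft (polarBilin Q) f = LinearMap.BilinForm.compRight (polarBilin Q) f' := by
    ext x y
    exact h x y
  rw [h3, h2] at h1
  have h4 := congrArg Matrix.det h1
  rw [Matrix.det_mul, Matrix.det_mul, Matrix.det_transpose, LinearMap.det_toMatrix, LinearMap.det_toMatrix,
    mul_comm] at h4
  exact (mul_right_cancel₀ (gdet_ne hQ) h4).symm

omit [FiniteDimensional F V] in
theorem inv_sub_one (g : V ≃ₗ[F] V) : en g⁻¹ - 1 = (-1 : F) • (en g⁻¹ * (en g - 1)) := by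
  rw [mul_sub, en_inv_mul, mul_one, neg_one_smul, neg_sub]

theorem det_ne_zero_of_inj {f : Module.End F V} (h : ∀ v, f v = 0 → v = 0) : LinearMap.det f ≠ 0 := by
  intro h0
  have h1 : LinearMap.ker f = ⊥ := LinearMap.ker_eq_bot'.2 h
  have h2 := LinearMap.isUnit_iff_ker_eq_bot f |>.2 h1
  have h3 := (LinearMap.isUnit_iff_isUnit_det f).1 h2
  rw [h0] at h3
  exact not_isUnit_zero h3

/-- **The determinant of an isometry without eigenvalue one.** -/
theorem det_of_no_one {Q : QuadraticForm F V} (hQ : Nondeg Q) {g : V ≃ₗ[F] V} (hg : g ∈ O Q)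
    (h : ∀ v, g v = v → v = 0) : LinearMap.det (en g) = (-1) ^ finrank F V := by
  have h1 := det_adj hQ (polar_sub_one hg)
  rw [inv_sub_one, LinearMap.det_smul, map_mul] at h1
  have h2 : LinearMap.det (en g - 1) ≠ 0 := det_ne_zero_of_inj (fun v hv => h v (by
    rw [LinearMap.sub_apply, sub_eq_zero] at hv
    exact hv))
  have h3 : LinearMap.det (en g⁻¹) * LinearMap.det (en g) = 1 := by
    rw [← map_mul, en_inv_mul]
    exact LinearMap.det_id
  have h4 : (1 : F) = (-1) ^ finrank F V * LinearMap.det (en g⁻¹) := by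
    apply mul_right_cancel₀ h2
    rw [one_mul, mul_assoc]
    exact h1
  linear_combination (LinearMap.det (en g)) * h4 + ((-1) ^ finrank F V) * h3

/-- **The class of a space with an isometry without eigenvalues `±1`.** -/
theorem dc_of_no_pm [Fintype F] [DecidableEq F] {Q : QuadraticForm F V} (hQ : Nondeg Q) {g : V ≃ₗ[F] V}
    (hg : g ∈ O Q) (h1 : ∀ v, g v = v → v = 0) (h2 : ∀ v, g v = -v → v = 0) (hd : LinearMap.det (en g) = 1) :
    (en g).charpoly.eval 1 * (en g).charpoly.eval (-1) ≠ 0 ∧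
      dc Q = quadraticChar F ((en g).charpoly.eval 1 * (en g).charpoly.eval (-1)) := by
  have e1 : (en g).charpoly.eval 1 * (en g).charpoly.eval (-1) = LinearMap.det (en g - en g⁻¹) := by
    rw [LinearMap.eval_charpoly, LinearMap.eval_charpoly, ← map_mul]
    have h3 : en g - en g⁻¹ = en g⁻¹ * ((algebraMap F (Module.End F V) 1 - en g) *
        (algebraMap F (Module.End F V) (-1) - en g)) := by
      rw [map_neg, map_one]
      have h4 : (1 - en g) * (-1 - en g) = en g * en g - 1 := by noncomm_ring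
      rw [h4, mul_sub, ← mul_assoc, en_inv_mul, one_mul, mul_one]
    rw [h3, map_mul LinearMap.det (en g⁻¹)]
    have h5 : LinearMap.det (en g⁻¹) * LinearMap.det (en g) = 1 := by
      rw [← map_mul, en_inv_mul]
      exact LinearMap.det_id
    rw [hd, mul_one] at h5
    rw [h5, one_mul]
  have e2 : LinearMap.det (en g - en g⁻¹) ≠ 0 := by
    apply det_ne_zero_of_inj
    intro v hv
    rw [LinearMap.sub_apply, sub_eq_zero] at hv
    have h3 : g v = g⁻¹ v := hv
    have h4 : g (g v) = v := by rw [h3]; exact g.apply_symm_apply v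
    have h5 : g v - v = 0 := h2 _ (by rw [map_sub, h4]; abel)
    exact h1 v (sub_eq_zero.1 h5)
  rw [e1]
  exact ⟨e2, dc_eq_of_skew hQ hg e2⟩

/-- ranks of powers of a nilpotent map -/
theorem rank_pow_le {f : Module.End F V} {n : ℕ} (hn : finrank F V = n) (hf : f ^ n = 0) (k : ℕ) :
    finrank F (LinearMap.range (f ^ k)) ≤ n - k := by
  induction k with
  | zero => rw [Nat.sub_zero, ← hn]; exact Submodule.finrank_le _
  | succ k ih =>
    by_cases h0 : f ^ k = 0
    · rw [pow_succ, h0, zero_mul, LinearMap.range_zero, finrank_bot]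
      exact Nat.zero_le _
    · have hlt : LinearMap.range (f ^ (k + 1)) < LinearMap.range (f ^ k) := by
        refine lt_of_le_of_ne ?_ ?_
        · rintro _ ⟨x, rfl⟩
          rw [pow_succ]
          exact ⟨f x, rfl⟩
        · intro heq
          have key : ∀ m, LinearMap.range (f ^ (k + m)) = LinearMap.range (f ^ k) := by
            intro m
            induction m with
            | zero => rfl
            | succ m ihm =>
              rw [← heq, ← add_assoc, pow_succ' f (k + m), pow_succ' f k, Module.End.mul_eq_comp,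
                Module.End.mul_eq_comp, LinearMap.range_comp, LinearMap.range_comp, ihm]
          have h1 := key n
          rw [pow_add, hf, mul_zero, LinearMap.range_zero] at h1
          exact h0 (LinearMap.range_eq_bot.1 h1.symm)
      have := Submodule.finrank_lt_finrank_of_lt hlt
      omega

/-- **Unipotent isometries in even dimension** satisfy `(u - 1) ^ (n - 1) = 0`. -/
theorem unip_even (h2 : (2 : F) ≠ 0) {Q : QuadraticForm F V} (hQ : Nondeg Q) {u : V ≃ₗ[F] V} (hu : u ∈ O Q)
    {n : ℕ} (hn : finrank F V = n + 1) (ho : Odd n) (hnil : (en u - 1) ^ (n + 1) = 0) : (en u - 1) ^ n = 0 := by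
  -- the skew map `S = u - u⁻¹ = u⁻¹ (u + 1) (u - 1)`
  set S : Module.End F V := en u - en u⁻¹ with hS
  have hSskew : ∀ x y, polar Q (S x) y = - polar Q x (S y) := by
    intro x y
    rw [hS, LinearMap.sub_apply, LinearMap.sub_apply, polar_sub_left, polar_sub_right]
    have h3 : polar Q (en u x) y = polar Q x (en u⁻¹ y) := polar_inv hu x y
    have h4 : polar Q (en u⁻¹ x) y = polar Q x (en u y) := by
      have := polar_inv ((O Q).inv_mem hu) x y
      rw [inv_inv] at this
      exact this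
    rw [h3, h4]
    ring
  have hSpow : ∀ (k : ℕ) x y, polar Q ((S ^ k) x) y = (-1) ^ k * polar Q x ((S ^ k) y) := by
    intro k
    induction k with
    | zero => intro x y; simp
    | succ k ih =>
      intro x y
      have e1 : (S ^ (k + 1)) x = S ((S ^ k) x) := by rw [pow_succ', Module.End.mul_apply]
      have e2 : (S ^ (k + 1)) y = (S ^ k) (S y) := by rw [pow_succ, Module.End.mul_apply]
      rw [e1, e2, hSskew, ih, pow_succ]
      ring
  have hc1 : Commute (en u⁻¹) (en u - 1) := by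
    show en u⁻¹ * (en u - 1) = (en u - 1) * en u⁻¹
    rw [mul_sub, sub_mul, en_inv_mul, en_mul_inv, mul_one, one_mul]
  have hc2 : Commute (en u + 1) (en u - 1) := by
    show (en u + 1) * (en u - 1) = (en u - 1) * (en u + 1)
    noncomm_ring
  have hfac : S = (en u⁻¹ * (en u + 1)) * (en u - 1) := by
    have h3 : (en u + 1) * (en u - 1) = en u * en u - 1 := by noncomm_ring
    rw [mul_assoc, h3, mul_sub, ← mul_assoc, en_inv_mul, one_mul, mul_one]
  have hc3 : Commute (en u⁻¹ * (en u + 1)) (en u - 1) := hc1.mul_left hc2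
  have hSn : ∀ k : ℕ, S ^ k = (en u⁻¹ * (en u + 1)) ^ k * (en u - 1) ^ k := by
    intro k
    rw [hfac, hc3.mul_pow]
  -- the unit factor
  have hunit : IsUnit (en u⁻¹ * (en u + 1)) := by
    apply IsUnit.mul
    · exact ⟨⟨en u⁻¹, en u, en_inv_mul u, en_mul_inv u⟩, rfl⟩
    · have h3 : en u + 1 = (en u - 1) + algebraMap F (Module.End F V) 2 := by
        rw [map_ofNat, ← one_add_one_eq_two]; abel
      rw [h3]
      have h4 : IsUnit (algebraMap F (Module.End F V) 2) := (isUnit_iff_ne_zero.2 h2).map _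
      exact IsNilpotent.isUnit_add_right_of_commute ⟨_, hnil⟩ h4 (Algebra.commutes (2 : F) (en u - 1)).symm
  have hSnil : S ^ (n + 1) = 0 := by rw [hSn, hnil, mul_zero]
  have hrank := rank_pow_le hn hSnil n
  have hrank1 : finrank F (LinearMap.range (S ^ n)) ≤ 1 := by omega
  -- the alternating form of rank at most one vanishes
  have halt : ∀ x, polar Q ((S ^ n) x) x = 0 := by
    intro x
    have h3 := hSpow n x x
    rw [ho.neg_one_pow, polar_comm Q x, neg_one_mul] at h3
    have h4 : (2 : F) * polar Q ((S ^ n) x) x = 0 := by linear_combination h3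
    exact (mul_eq_zero.1 h4).resolve_left h2
  have hSn0 : S ^ n = 0 := by
    by_contra hne
    obtain ⟨x₀, hx₀⟩ : ∃ x, (S ^ n) x ≠ 0 := by
      by_contra hcon
      push Not at hcon
      exact hne (LinearMap.ext hcon)
    -- everything in the range is a multiple of `w = S^n x₀`
    have hmul : ∀ x, ∃ c : F, (S ^ n) x = c • (S ^ n) x₀ := by
      intro x
      have h3 : finrank F (LinearMap.range (S ^ n)) = 1 := by
        have : 0 < finrank F (LinearMap.range (S ^ n)) := by
          rw [Module.finrank_pos_iff]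
          exact ⟨⟨⟨_, ⟨x₀, rfl⟩⟩, 0, fun h => hx₀ (congrArg Subtype.val h)⟩⟩
        omega
      obtain ⟨c, hc⟩ := (finrank_eq_one_iff_of_nonzero' (⟨_, ⟨x₀, rfl⟩⟩ : LinearMap.range (S ^ n))
        (fun h => hx₀ (congrArg Subtype.val h))).1 h3 ⟨_, ⟨x, rfl⟩⟩
      exact ⟨c, (congrArg Subtype.val hc).symm⟩
    obtain ⟨y, hy⟩ := hQ.exists_polar_ne hx₀
    -- `S^n y = c w`
    obtain ⟨c, hc⟩ := hmul y
    have h3 := halt y
    rw [hc, polar_smul_left, smul_eq_mul] at h3
    have hc0 : c = 0 := (mul_eq_zero.1 h3).resolve_right hy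
    rw [hc0, zero_smul] at hc
    have h4 := halt (x₀ + y)
    rw [map_add, hc, add_zero, polar_add_right, halt x₀, zero_add] at h4
    exact hy h4
  rw [hSn] at hSn0
  exact ((hunit.pow n).mul_right_eq_zero).1 hSn0

end Cfsg.Agent.H160.QSplit
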