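import Mathlib
import Cfsg.Agent.H160.QDisc
import Cfsg.Agent.H160.QSplit
import Cfsg.Agent.ClassicalGeometry.NegOneOmega

/-!
# Isometries acting semiregularly on the nonzero vectors of the eight-dimensional space of plus type (helper160)
-/

set_option autoImplicit false

namespace Cfsg.Agent.H160.QSemi

open QuadraticMap Module
open Cfsg.Agent.LieClassical.OrthCore Cfsg.Agent.H160.QSpin Cfsg.Agent.H160.QDisc Cfsg.Agent.H160.QSplit

/-- the sign of a semiregular permutation -/
theorem sign_semireg {α : Type*} [Fintype α] [DecidableEq α] (σ : Equiv.Perm α) {n : ℕ} (hn : 0 < n)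
    (hσ : σ ^ n = 1) (hfree : ∀ i, 0 < i → i < n → ∀ x, (σ ^ i) x ≠ x) (hs : Equiv.Perm.sign σ = 1) :
    Odd n ∨ 2 * n ∣ Fintype.card α := by
  rcases Nat.even_or_odd n with he | ho
  swap
  · exact Or.inl ho
  right
  have h1n : 1 < n := by
    obtain ⟨k, hk⟩ := he
    omega
  have hmem : ∀ m ∈ σ.cycleType, m = n := by
    intro m hm
    have hdvd : m ∣ n := (Equiv.Perm.dvd_of_mem_cycleType hm).trans (orderOf_dvd_of_pow_eq_one hσ)
    have hle : m ≤ n := Nat.le_of_dvd hn hdvd
    by_contra hne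
    obtain ⟨c, τ, hct, hd, hc, hcm⟩ := Equiv.Perm.mem_cycleType_iff.1 hm
    have hm1 : 1 < m := Equiv.Perm.one_lt_of_mem_cycleType hm
    obtain ⟨x, hx⟩ : c.support.Nonempty := by
      rw [← Finset.card_pos, hcm]; omega
    apply hfree m (by omega) (by omega) x
    have hcom : Commute c τ := hd.commute
    rw [hct, hcom.mul_pow, Equiv.Perm.mul_apply]
    have hτ : τ x = x := by
      rcases hd x with h | h
      · exact absurd h (Equiv.Perm.mem_support.1 hx)
      · exact h
    have h1 : (τ ^ m) x = x := Equiv.Perm.pow_apply_eq_self_of_apply_eq_self hτ m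
    rw [h1]
    have h2 : c ^ m = 1 := by rw [← hcm, ← hc.orderOf, pow_orderOf_eq_one]
    rw [h2]; rfl
  have hrep : σ.cycleType = Multiset.replicate σ.cycleType.card n := Multiset.eq_replicate_card.2 hmem
  have hsign := Equiv.Perm.sign_of_cycleType_eq_replicate hn hrep
  rw [if_neg (Nat.not_odd_iff_even.2 he), hs] at hsign
  have hfix : Fintype.card (Function.fixedPoints σ) = 0 := by
    rw [Fintype.card_eq_zero_iff]
    refine ⟨fun x => hfree 1 (by omega) h1n x ?_⟩
    rw [pow_one]
    exact x.2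
  have hsum : Fintype.card α = σ.cycleType.card * n := by
    have h3 := Equiv.Perm.card_fixedPoints σ
    rw [hfix] at h3
    have h4 := Equiv.Perm.sum_cycleType_le σ
    have h5 : σ.cycleType.sum = σ.cycleType.card * n := by
      conv_lhs => rw [hrep]
      rw [Multiset.sum_replicate, smul_eq_mul]
    omega
  rw [hfix, Nat.sub_zero, hsum, Nat.mul_div_cancel _ hn] at hsign
  have heven : Even σ.cycleType.card := by
    by_contra hodd
    rw [Nat.not_even_iff_odd] at hodd
    rw [hodd.neg_one_pow] at hsign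
    exact absurd hsign (by decide)
  obtain ⟨k, hk⟩ := heven
  exact ⟨k, by rw [hsum, hk]; ring⟩

variable {F : Type*} [Field F] [Fintype F] [DecidableEq F]

/-- the class of a space with a totally isotropic subspace of half dimension -/
theorem dc_of_isotropic {V : Type*} [AddCommGroup V] [Module F V] [FiniteDimensional F V]
    {Q : QuadraticForm F V} (hQ : Nondeg Q) {m : ℕ} (hm : finrank F V = 2 * m) (X : Submodule F V)
    (hX : finrank F X = m) (hiso : ∀ x ∈ X, ∀ y ∈ X, polar Q x y = 0) :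
    dc Q = quadraticChar F (-1) ^ m := by
  obtain ⟨s, hs⟩ := ClassicalGeometry.Discriminant.det_of_isotropic_half (polarBilin Q) (isSymm_bilin Q) m hm
    (finBasis F V) X hX hiso
  have h0 := gdet_ne hQ
  unfold dc
  unfold gdet at h0 ⊢
  rw [hs] at h0 ⊢
  have hs0 : s ≠ 0 := by
    rintro rfl
    simp at h0
  rw [mul_comm, qc_sq_mul hs0, map_pow]

/-- the hyperbolic form -/
noncomputable def hyp (F : Type*) [Field F] (k : ℕ) : QuadraticForm F ((Fin k → F) × (Fin k → F)) :=
  LinearMap.BilinMap.toQuadraticMap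
    (LinearMap.mk₂ F (fun p r : (Fin k → F) × (Fin k → F) => ∑ i, p.1 i * r.2 i)
      (fun p p' r => by simp [add_mul, Finset.sum_add_distrib])
      (fun c p r => by simp [Finset.mul_sum, mul_assoc])
      (fun p r r' => by simp [mul_add, Finset.sum_add_distrib])
      (fun c p r => by simp [Finset.mul_sum, mul_left_comm]))

omit [Fintype F] [DecidableEq F] in
theorem hyp_apply (k : ℕ) (p : (Fin k → F) × (Fin k → F)) : hyp F k p = ∑ i, p.1 i * p.2 i := rfl

omit [Fintype F] [DecidableEq F] in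
theorem polar_hyp (k : ℕ) (p r : (Fin k → F) × (Fin k → F)) :
    polar (hyp F k) p r = ∑ i, p.1 i * r.2 i + ∑ i, r.1 i * p.2 i := by
  simp only [QuadraticMap.polar, hyp_apply, Prod.fst_add, Prod.snd_add, Pi.add_apply]
  rw [← Finset.sum_sub_distrib, ← Finset.sum_sub_distrib, ← Finset.sum_add_distrib]
  refine Finset.sum_congr rfl fun i _ => ?_
  ring

omit [Fintype F] [DecidableEq F] in
theorem nondeg_hyp (k : ℕ) : Nondeg (hyp F k) := by
  intro p hp
  apply Prod.ext
  · funext i
    have := hp (0, Pi.single i 1)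
    rw [polar_hyp] at this
    simpa [Pi.single_apply] using this
  · funext i
    have := hp (Pi.single i 1, 0)
    rw [polar_hyp] at this
    simpa [Pi.single_apply] using this

theorem dc_hyp (k : ℕ) : dc (hyp F k) = quadraticChar F (-1) ^ k := by
  refine dc_of_isotropic (nondeg_hyp k) (by simp [two_mul]) (LinearMap.range (LinearMap.inl F (Fin k → F) (Fin k → F)))
    ?_ ?_
  · rw [LinearMap.finrank_range_of_inj LinearMap.inl_injective]; simp
  · rintro _ ⟨x, rfl⟩ _ ⟨y, rfl⟩
    rw [polar_hyp]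
    simp

theorem card_hyp : Fintype.card {p : (Fin 4 → F) × (Fin 4 → F) // hyp F 4 p = 1} =
    Fintype.card F ^ 3 * (Fintype.card F ^ 4 - 1) := by
  have h := ClassicalGeometry.NegOneOmega.card_hyperbolic (F := F) (S := Unit) (fun _ => 0) 4 1
  have h1 : Fintype.card {s : Unit // (0 : F) = 1} = 0 := by
    rw [Fintype.card_eq_zero_iff]
    exact ⟨fun s => zero_ne_one s.2⟩
  have h2 : Fintype.card {p : (Fin 4 → F) × ((Fin 4 → F) × Unit) // ∑ i, p.1 i * p.2.1 i + 0 = (1 : F)} =
      Fintype.card {p : (Fin 4 → F) × (Fin 4 → F) // hyp F 4 p = 1} := by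
    refine Fintype.card_congr ⟨fun p => ⟨(p.1.1, p.1.2.1), ?_⟩, fun p => ⟨(p.1.1, (p.1.2, ())), ?_⟩,
      fun p => rfl, fun p => rfl⟩
    · rw [hyp_apply]; simpa using p.2
    · have := p.2; rw [hyp_apply] at this; simpa using this
  rw [h1, h2, mul_zero, add_zero, Fintype.card_unit, mul_one, mul_one] at h
  have hq : 0 < Fintype.card F := Fintype.card_pos
  apply Nat.eq_of_mul_eq_mul_left hq
  have h3 : Fintype.card F * (Fintype.card F ^ 3 * (Fintype.card F ^ 4 - 1)) + Fintype.card F ^ 4 =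
      Fintype.card F ^ (2 * 4) := by
    obtain ⟨t, ht⟩ : ∃ t, Fintype.card F ^ 4 = t + 1 := ⟨Fintype.card F ^ 4 - 1, by
      have := pow_pos hq 4; omega⟩
    rw [← mul_assoc, ← pow_succ', pow_mul', ht, Nat.add_sub_cancel]
    ring
  omega

/-- **Semiregular isometries in plus type.** -/
theorem semireg {V : Type*} [AddCommGroup V] [Module F V] [FiniteDimensional F V] [Finite V]
    (h2 : (2 : F) ≠ 0) {Q : QuadraticForm F V} (hQ : Nondeg Q) (hV : finrank F V = 8) (hdc : dc Q = 1)
    {g : V ≃ₗ[F] V} (hg : El Q 1 g) {n : ℕ} (hn : 0 < n) (hgn : g ^ n = 1)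
    (hfree : ∀ i, 0 < i → i < n → ∀ v, v ≠ 0 → (g ^ i) v ≠ v) :
    Odd n ∨ 2 * n ∣ Fintype.card F ^ 3 * (Fintype.card F ^ 4 - 1) := by
  classical
  obtain ⟨hgO, hdet, hsp⟩ := hg
  let _ := Fintype.ofFinite {x : V // Q x = 1}
  have hm1 : quadraticChar F (-1) ^ 4 = 1 := by
    have : quadraticChar F (-1) ^ 2 = 1 := quadraticChar_sq_one (neg_ne_zero.2 one_ne_zero)
    rw [show (4 : ℕ) = 2 * 2 from rfl, pow_mul, this, one_pow]
  obtain ⟨e, he⟩ := exists_iso h2 hQ (nondeg_hyp 4) (by rw [hV]; simp) (by rw [hdc, dc_hyp, hm1])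
  have hcard : Fintype.card {x : V // Q x = 1} = Fintype.card F ^ 3 * (Fintype.card F ^ 4 - 1) := by
    rw [← card_hyp]
    refine Fintype.card_congr ⟨fun x => ⟨e x, by rw [he]; exact x.2⟩, fun x => ⟨e.symm x, by
      rw [he.symm]; exact x.2⟩, fun x => Subtype.ext (e.symm_apply_apply _),
      fun x => Subtype.ext (e.apply_symm_apply _)⟩
  rw [spin_apply] at hsp
  rw [← hcard]
  have hpow : ∀ (i : ℕ) (x : {x : V // Q x = 1}),
      (((qperm Q ⟨g, hgO⟩ ^ i) x : {x : V // Q x = 1}) : V) = (g ^ i) x := by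
    intro i x
    rw [← map_pow]
    rfl
  refine sign_semireg (qperm Q ⟨g, hgO⟩) hn ?_ ?_ hsp
  · ext x
    rw [hpow, hgn]
    rfl
  · intro i hi hin x hx
    have h3 := congrArg Subtype.val hx
    rw [hpow] at h3
    refine hfree i hi hin x ?_ h3
    intro h0
    have := x.2
    rw [h0, QuadraticMap.map_zero] at this
    exact zero_ne_one this

end Cfsg.Agent.H160.QSemi
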