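import Mathlib

/-!
# Multisets closed under the Frobenius map and inversion (helper160)

`Inv q R` : the multiset `R` of nonzero elements of a field, none of them `±1`, is invariant under `x ↦ x ^ q` and
`x ↦ x⁻¹`.
* `orb q μ d` : the orbit of `μ` under both maps;
* `peel` : `R = m • orb μ d + R'`;
* `phi` and its value on an orbit.
-/

set_option autoImplicit false

namespace Cfsg.Agent.H160.QRoots

variable {K : Type*} [Field K] [DecidableEq K] {q : ℕ}

/-- invariance under Frobenius and inversion -/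
structure Inv (q : ℕ) (R : Multiset K) : Prop where
  frob : ∀ x, R.count (x ^ q) = R.count x
  inv : ∀ x, R.count x⁻¹ = R.count x
  ne0 : ∀ x ∈ R, x ≠ 0
  ne1 : ∀ x ∈ R, x ≠ x⁻¹

/-- `d` is minimal with `μ ^ (q ^ d) = μ^{±1}` -/
structure IsMin (q : ℕ) (μ : K) (d : ℕ) : Prop where
  pos : 0 < d
  eq : μ ^ (q ^ d) = μ ∨ μ ^ (q ^ d) = μ⁻¹
  min : ∀ i, 0 < i → i < d → μ ^ (q ^ i) ≠ μ ∧ μ ^ (q ^ i) ≠ μ⁻¹
  ne0 : μ ≠ 0
  ne1 : μ ≠ μ⁻¹

/-- the orbit -/
def orb (q : ℕ) (μ : K) (d : ℕ) : Finset K :=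
  (Finset.range d).image (fun i => μ ^ (q ^ i)) ∪ (Finset.range d).image (fun i => (μ ^ (q ^ i))⁻¹)

theorem mem_orb {μ x : K} {d : ℕ} :
    x ∈ orb q μ d ↔ ∃ i < d, x = μ ^ (q ^ i) ∨ x = (μ ^ (q ^ i))⁻¹ := by
  simp only [orb, Finset.mem_union, Finset.mem_image, Finset.mem_range]
  constructor
  · rintro (⟨i, hi, rfl⟩ | ⟨i, hi, rfl⟩)
    · exact ⟨i, hi, Or.inl rfl⟩
    · exact ⟨i, hi, Or.inr rfl⟩
  · rintro ⟨i, hi, rfl | rfl⟩
    · exact Or.inl ⟨i, hi, rfl⟩
    · exact Or.inr ⟨i, hi, rfl⟩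

section Orb

variable (hq : Function.Injective (fun x : K => x ^ q)) {μ : K} {d : ℕ}
include hq

omit [DecidableEq K] in
theorem inj_pow (i : ℕ) : Function.Injective (fun x : K => x ^ (q ^ i)) := by
  induction i with
  | zero => intro x y h; simpa using h
  | succ i ih =>
    intro x y h
    simp only [pow_succ, pow_mul] at h
    exact ih (hq h)

omit [DecidableEq K] hq in
theorem frob_frob (μ : K) (i j : ℕ) : (μ ^ (q ^ i)) ^ (q ^ j) = μ ^ (q ^ (i + j)) := by
  rw [← pow_mul, ← pow_add]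

omit [DecidableEq K] in
/-- the key to distinctness -/
theorem ne_of_lt (h : IsMin q μ d) {i j : ℕ} (hij : i < j) (hj : j < d) :
    μ ^ (q ^ i) ≠ μ ^ (q ^ j) ∧ μ ^ (q ^ i) ≠ (μ ^ (q ^ j))⁻¹ := by
  obtain ⟨k, rfl⟩ := Nat.exists_eq_add_of_lt hij
  have h1 := h.min (k + 1) (Nat.succ_pos k) (by omega)
  constructor
  · intro h2
    apply h1.1
    have h3 : (μ ^ (q ^ (k + 1))) ^ (q ^ i) = μ ^ (q ^ i) := by
      rw [frob_frob, h2]
      congr 2
      omega
    exact inj_pow hq i h3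
  · intro h2
    apply h1.2
    have h3 : (μ ^ (q ^ (k + 1))) ^ (q ^ i) = (μ⁻¹) ^ (q ^ i) := by
      rw [frob_frob, inv_pow, h2, inv_inv]
      congr 2
      omega
    exact inj_pow hq i h3

omit [DecidableEq K] in
theorem ne_inv (h : IsMin q μ d) (i : ℕ) : μ ^ (q ^ i) ≠ (μ ^ (q ^ i))⁻¹ := by
  intro h2
  apply h.ne1
  rw [← inv_pow] at h2
  exact inj_pow hq i h2

omit [DecidableEq K] in
theorem injOn_frob (h : IsMin q μ d) : Set.InjOn (fun i => μ ^ (q ^ i)) (Finset.range d : Set ℕ) := by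
  intro i hi j hj hij
  simp only [Finset.coe_range, Set.mem_Iio] at hi hj
  rcases lt_trichotomy i j with h1 | h1 | h1
  · exact absurd hij (ne_of_lt hq h h1 hj).1
  · exact h1
  · exact absurd hij.symm (ne_of_lt hq h h1 hi).1

omit [DecidableEq K] in
theorem injOn_frob_inv (h : IsMin q μ d) : Set.InjOn (fun i => (μ ^ (q ^ i))⁻¹) (Finset.range d : Set ℕ) := by
  intro i hi j hj hij
  exact injOn_frob hq h hi hj (inv_injective hij)

theorem disjoint_orb (h : IsMin q μ d) : Disjoint ((Finset.range d).image (fun i => μ ^ (q ^ i)))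
    ((Finset.range d).image (fun i => (μ ^ (q ^ i))⁻¹)) := by
  rw [Finset.disjoint_left]
  intro x hx hx'
  rw [Finset.mem_image] at hx hx'
  obtain ⟨i, hi, rfl⟩ := hx
  obtain ⟨j, hj, hij⟩ := hx'
  rw [Finset.mem_range] at hi hj
  rcases lt_trichotomy i j with h1 | h1 | h1
  · exact (ne_of_lt hq h h1 hj).2 hij.symm
  · subst h1; exact ne_inv hq h i hij.symm
  · apply (ne_of_lt hq h h1 hi).2
    rw [← hij, inv_inv]

theorem card_orb (h : IsMin q μ d) : (orb q μ d).card = 2 * d := by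
  rw [orb, Finset.card_union_of_disjoint (disjoint_orb hq h), Finset.card_image_of_injOn (injOn_frob hq h),
    Finset.card_image_of_injOn (injOn_frob_inv hq h), Finset.card_range, two_mul]

theorem prod_orb {M : Type*} [CommMonoid M] (φ : K → M) (h : IsMin q μ d) :
    ∏ x ∈ orb q μ d, φ x = ∏ i ∈ Finset.range d, (φ (μ ^ (q ^ i)) * φ (μ ^ (q ^ i))⁻¹) := by
  rw [orb, Finset.prod_union (disjoint_orb hq h), Finset.prod_image (injOn_frob hq h),
    Finset.prod_image (injOn_frob_inv hq h), Finset.prod_mul_distrib]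

omit hq in
theorem self_mem_orb (h : IsMin q μ d) : μ ∈ orb q μ d :=
  mem_orb.2 ⟨0, h.pos, Or.inl (by simp)⟩

omit hq in
theorem inv_mem_orb {x : K} : x⁻¹ ∈ orb q μ d ↔ x ∈ orb q μ d := by
  rw [mem_orb, mem_orb]
  constructor
  · rintro ⟨i, hi, h | h⟩
    · exact ⟨i, hi, Or.inr (by rw [← h, inv_inv])⟩
    · exact ⟨i, hi, Or.inl (inv_injective h)⟩
  · rintro ⟨i, hi, rfl | rfl⟩
    · exact ⟨i, hi, Or.inr rfl⟩
    · exact ⟨i, hi, Or.inl (inv_inv _)⟩

omit hq in
theorem frob_mem_orb_of (h : IsMin q μ d) {x : K} (hx : x ∈ orb q μ d) : x ^ q ∈ orb q μ d := by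
  have key : ∀ i < d, μ ^ (q ^ (i + 1)) ∈ orb q μ d := by
    intro i hi
    rcases Nat.lt_or_ge (i + 1) d with h1 | h1
    · exact mem_orb.2 ⟨i + 1, h1, Or.inl rfl⟩
    · have : i + 1 = d := by omega
      rw [this]
      rcases h.eq with h2 | h2
      · rw [h2]; exact self_mem_orb h
      · rw [h2]; exact inv_mem_orb.2 (self_mem_orb h)
  obtain ⟨i, hi, rfl | rfl⟩ := mem_orb.1 hx
  · rw [← pow_mul, ← pow_succ]; exact key i hi
  · rw [inv_pow, ← pow_mul, ← pow_succ, inv_mem_orb]; exact key i hi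

theorem frob_mem_orb (h : IsMin q μ d) {x : K} : x ^ q ∈ orb q μ d ↔ x ∈ orb q μ d := by
  refine ⟨fun hx => ?_, frob_mem_orb_of h⟩
  have h1 : (orb q μ d).image (fun x => x ^ q) = orb q μ d := by
    apply Finset.eq_of_subset_of_card_le
    · intro y hy
      obtain ⟨z, hz, rfl⟩ := Finset.mem_image.1 hy
      exact frob_mem_orb_of h hz
    · rw [Finset.card_image_of_injective _ hq]
  rw [← h1] at hx
  obtain ⟨z, hz, hzx⟩ := Finset.mem_image.1 hx
  rw [← hq hzx]
  exact hz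

end Orb

section Peel

variable {R : Multiset K}

omit [DecidableEq K] in
theorem frob_iter [DecidableEq K] (h : Inv q R) (x : K) (i : ℕ) : R.count (x ^ (q ^ i)) = R.count x := by
  induction i with
  | zero => simp
  | succ i ih => rw [pow_succ, pow_mul, h.frob, ih]

theorem count_orb (h : Inv q R) {μ x : K} {d : ℕ} (hx : x ∈ orb q μ d) : R.count x = R.count μ := by
  obtain ⟨i, _, rfl | rfl⟩ := mem_orb.1 hx
  · exact frob_iter h μ i
  · rw [h.inv, frob_iter h μ i]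

theorem exists_isMin (hq : Function.Injective (fun x : K => x ^ q)) (h : Inv q R) {μ : K} (hμ : μ ∈ R) :
    ∃ d, IsMin q μ d := by
  have hmem : ∀ i : ℕ, μ ^ (q ^ i) ∈ R.toFinset := by
    intro i
    rw [Multiset.mem_toFinset, ← Multiset.one_le_count_iff_mem, frob_iter h, Multiset.one_le_count_iff_mem]
    exact hμ
  have hex : ∃ k, 0 < k ∧ (μ ^ (q ^ k) = μ ∨ μ ^ (q ^ k) = μ⁻¹) := by
    obtain ⟨i, j, hij, h1⟩ := Finite.exists_ne_map_eq_of_infinite
      (fun i : ℕ => (⟨μ ^ (q ^ i), hmem i⟩ : {x // x ∈ R.toFinset}))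
    have h2 : μ ^ (q ^ i) = μ ^ (q ^ j) := congrArg Subtype.val h1
    have key : ∀ i j : ℕ, i < j → μ ^ (q ^ i) = μ ^ (q ^ j) → ∃ k, 0 < k ∧ (μ ^ (q ^ k) = μ ∨ μ ^ (q ^ k) = μ⁻¹) := by
      intro i j hij h2
      obtain ⟨k, rfl⟩ := Nat.exists_eq_add_of_lt hij
      refine ⟨k + 1, Nat.succ_pos k, Or.inl ?_⟩
      have h3 : (μ ^ (q ^ (k + 1))) ^ (q ^ i) = μ ^ (q ^ i) := by
        rw [frob_frob, h2]
        congr 2
        omega
      exact inj_pow hq i h3
    rcases lt_or_gt_of_ne hij with h3 | h3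
    · exact key i j h3 h2
    · exact key j i h3 h2.symm
  classical
  refine ⟨Nat.find hex, (Nat.find_spec hex).1, (Nat.find_spec hex).2, ?_, h.ne0 _ hμ, h.ne1 _ hμ⟩
  intro i hi hlt
  have := Nat.find_min hex hlt
  push Not at this
  exact this hi

/-- removing an orbit -/
theorem Inv.filter (hq : Function.Injective (fun x : K => x ^ q)) (h : Inv q R) {μ : K} {d : ℕ} (hd : IsMin q μ d) :
    Inv q (R.filter (fun x => x ∉ orb q μ d)) where
  frob x := by
    by_cases hx : x ∈ orb q μ d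
    · rw [Multiset.count_filter_of_neg (p := fun x => x ∉ orb q μ d) (by rw [frob_mem_orb hq hd]; exact not_not.2 hx),
        Multiset.count_filter_of_neg (p := fun x => x ∉ orb q μ d) (not_not.2 hx)]
    · rw [Multiset.count_filter_of_pos (p := fun x => x ∉ orb q μ d) (by rw [frob_mem_orb hq hd]; exact hx),
        Multiset.count_filter_of_pos (p := fun x => x ∉ orb q μ d) hx, h.frob]
  inv x := by
    by_cases hx : x ∈ orb q μ d
    · rw [Multiset.count_filter_of_neg (p := fun x => x ∉ orb q μ d) (by rw [inv_mem_orb]; exact not_not.2 hx),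
        Multiset.count_filter_of_neg (p := fun x => x ∉ orb q μ d) (not_not.2 hx)]
    · rw [Multiset.count_filter_of_pos (p := fun x => x ∉ orb q μ d) (by rw [inv_mem_orb]; exact hx),
        Multiset.count_filter_of_pos (p := fun x => x ∉ orb q μ d) hx, h.inv]
  ne0 x hx := h.ne0 x (Multiset.mem_of_mem_filter hx)
  ne1 x hx := h.ne1 x (Multiset.mem_of_mem_filter hx)

theorem filter_mem (h : Inv q R) (μ : K) (d : ℕ) :
    R.filter (fun x => x ∈ orb q μ d) = R.count μ • (orb q μ d).val := by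
  ext x
  rw [Multiset.count_nsmul]
  by_cases hx : x ∈ orb q μ d
  · rw [Multiset.count_filter_of_pos hx, count_orb h hx, Multiset.count_eq_one_of_mem (orb q μ d).nodup hx,
      mul_one]
  · rw [Multiset.count_filter_of_neg hx, Multiset.count_eq_zero_of_notMem (s := (orb q μ d).val) hx, mul_zero]

/-- **Removing an orbit.** -/
theorem peel (hq : Function.Injective (fun x : K => x ^ q)) (h : Inv q R) {μ : K} {d : ℕ} (hd : IsMin q μ d) :
    ∃ R', R = R.count μ • (orb q μ d).val + R' ∧ Inv q R' ∧ (∀ x, x ∈ R' ↔ x ∈ R ∧ x ∉ orb q μ d) ∧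
      (∀ x ∈ R', R'.count x = R.count x) ∧ R.card = R.count μ * (2 * d) + R'.card := by
  refine ⟨R.filter (fun x => x ∉ orb q μ d), ?_, h.filter hq hd, fun x => Multiset.mem_filter, ?_, ?_⟩
  · rw [← filter_mem h μ d, Multiset.filter_add_not]
  · intro x hx
    exact Multiset.count_filter_of_pos (Multiset.mem_filter.1 hx).2
  · have h1 := congrArg Multiset.card (Multiset.filter_add_not (fun x => x ∈ orb q μ d) R)
    rw [filter_mem h μ d, Multiset.card_add, Multiset.card_nsmul, Finset.card_val, card_orb hq hd] at h1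
    exact h1.symm

end Peel

/-! ### The invariant `∏ (1 - x) (-1 - x)` -/

/-- the product of `(1 - x) (-1 - x)` -/
def phi (R : Multiset K) : K := (R.map (fun x => (1 - x) * (-1 - x))).prod

omit [DecidableEq K] in
theorem phi_add (R S : Multiset K) : phi (R + S) = phi R * phi S := by
  simp only [phi, Multiset.map_add, Multiset.prod_add]

omit [DecidableEq K] in
theorem phi_nsmul (n : ℕ) (R : Multiset K) : phi (n • R) = phi R ^ n := by
  simp only [phi, Multiset.map_nsmul, Multiset.prod_nsmul]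

omit [DecidableEq K] in
theorem phi_zero : phi (0 : Multiset K) = 1 := by simp [phi]

/-- the value on an orbit, `2 * e + 1 = q` -/
theorem phi_orb (hq : Function.Injective (fun x : K => x ^ q)) (hsub : ∀ x y : K, (x - y) ^ q = x ^ q - y ^ q)
    {e : ℕ} (he : q = 2 * e + 1) {μ : K} {d : ℕ} (hd : IsMin q μ d) :
    (μ ^ (q ^ d) = μ → phi (orb q μ d).val ^ e = (-1) ^ (d * e)) ∧
      (μ ^ (q ^ d) = μ⁻¹ → phi (orb q μ d).val ^ e = (-1) ^ (d * e) * (-1)) := by
  have hκ : ∀ i : ℕ, μ ^ (q ^ i) - (μ ^ (q ^ i))⁻¹ ≠ 0 := fun i => sub_ne_zero.2 (ne_inv hq hd i)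
  have hne : ∀ i : ℕ, μ ^ (q ^ i) ≠ 0 := fun i => pow_ne_zero _ hd.ne0
  have h1 : phi (orb q μ d).val = ∏ i ∈ Finset.range d, -(μ ^ (q ^ i) - (μ ^ (q ^ i))⁻¹) ^ 2 := by
    show ∏ x ∈ orb q μ d, (1 - x) * (-1 - x) = _
    rw [prod_orb hq _ hd]
    refine Finset.prod_congr rfl fun i _ => ?_
    have := hne i
    generalize μ ^ (q ^ i) = y at this
    field_simp
    ring
  have h2 : ∀ i : ℕ, (μ ^ (q ^ i) - (μ ^ (q ^ i))⁻¹) ^ q = μ ^ (q ^ (i + 1)) - (μ ^ (q ^ (i + 1)))⁻¹ := by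
    intro i
    rw [hsub, inv_pow, ← pow_mul, ← pow_succ]
  have h3 : phi (orb q μ d).val ^ e =
      (-1) ^ (d * e) * ∏ i ∈ Finset.range d, ((μ ^ (q ^ (i + 1)) - (μ ^ (q ^ (i + 1)))⁻¹) /
        (μ ^ (q ^ i) - (μ ^ (q ^ i))⁻¹)) := by
    rw [h1, ← Finset.prod_pow]
    have h4 : (-1 : K) ^ (d * e) = ∏ _i ∈ Finset.range d, (-1) ^ e := by
      rw [Finset.prod_const, Finset.card_range, ← pow_mul, mul_comm]
    rw [h4, ← Finset.prod_mul_distrib]
    refine Finset.prod_congr rfl fun i _ => ?_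
    have h5 : ∀ y : K, y ≠ 0 → y ^ (2 * e) = y ^ q / y := by
      intro y hy
      rw [he, pow_succ, mul_div_assoc, div_self hy, mul_one]
    rw [← h2 i, neg_pow, ← pow_mul, h5 _ (hκ i)]
  have h6 : ∀ n : ℕ, ∏ i ∈ Finset.range n, ((μ ^ (q ^ (i + 1)) - (μ ^ (q ^ (i + 1)))⁻¹) /
      (μ ^ (q ^ i) - (μ ^ (q ^ i))⁻¹)) = (μ ^ (q ^ n) - (μ ^ (q ^ n))⁻¹) / (μ ^ (q ^ 0) - (μ ^ (q ^ 0))⁻¹) := by
    intro n
    induction n with
    | zero => rw [Finset.prod_range_zero, div_self (hκ 0)]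
    | succ n ih => rw [Finset.prod_range_succ, ih, div_mul_div_comm, mul_comm (μ ^ (q ^ n) - _), mul_div_mul_right _ _ (hκ n)]
  rw [h6] at h3
  have h0 : μ - μ⁻¹ ≠ 0 := sub_ne_zero.2 hd.ne1
  constructor
  · intro h
    rw [h3, h]
    simp only [pow_zero, pow_one]
    rw [div_self h0, mul_one]
  · intro h
    rw [h3, h]
    simp only [pow_zero, pow_one, inv_inv]
    congr 1
    rw [div_eq_iff h0]
    ring

end Cfsg.Agent.H160.QRoots
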