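import Mathlib
import Cfsg.Agent.H160.QRoots

/-!
# Multisets closed under the Frobenius map and inversion, at most eight elements (helper160)
-/

set_option autoImplicit false

namespace Cfsg.Agent.H160.QRoots

variable {K : Type*} [Field K] [DecidableEq K] {q : ℕ}

/-- all multiplicities are at most `M`, all elements are `N`-th roots of unity -/
structure Bd (R : Multiset K) (M N : ℕ) : Prop where
  cnt : ∀ x, R.count x ≤ M
  ex : ∀ x ∈ R, x ^ N = 1

omit [DecidableEq K] in
theorem pow_sub_of_eq {x : K} (hx : x ≠ 0) {n : ℕ} (hn : 0 < n) (h : x ^ n = x) : x ^ (n - 1) = 1 := by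
  have h1 : x ^ (n - 1) * x = 1 * x := by
    rw [← pow_succ, Nat.sub_add_cancel hn, h, one_mul]
  exact mul_right_cancel₀ hx h1

omit [DecidableEq K] in
theorem pow_add_of_eq {x : K} (hx : x ≠ 0) {n : ℕ} (h : x ^ n = x⁻¹) : x ^ (n + 1) = 1 := by
  rw [pow_succ, h, inv_mul_cancel₀ hx]

omit [DecidableEq K] in
theorem pow_dvd {x : K} {m n : ℕ} (h : x ^ m = 1) (hmn : m ∣ n) : x ^ n = 1 := by
  obtain ⟨k, rfl⟩ := hmn
  rw [pow_mul, h, one_pow]

theorem sub_one_dvd (q n : ℕ) : q - 1 ∣ q ^ n - 1 := by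
  simpa using Nat.sub_dvd_pow_sub_pow q 1 n

theorem add_one_dvd_cube (q : ℕ) : q + 1 ∣ q ^ 3 + 1 := by
  have := Odd.nat_add_dvd_pow_add_pow q 1 (n := 3) (by decide)
  simpa using this

theorem add_one_dvd_sq (q : ℕ) : q + 1 ∣ q ^ 2 - 1 := by
  refine ⟨q - 1, ?_⟩
  have := Nat.sq_sub_sq q 1
  simpa using this

theorem half_four {q e : ℕ} (he : q = 2 * e + 1) :
    q ^ 2 - 1 ∣ (q ^ 4 - 1) / 2 ∧ q ^ 2 + 1 ∣ (q ^ 4 - 1) / 2 := by
  have h1 : q ^ 2 + 1 = 2 * (2 * e ^ 2 + 2 * e + 1) := by subst he; ring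
  have h2 : q ^ 2 - 1 = 2 * (2 * e ^ 2 + 2 * e) := by
    have : q ^ 2 = 2 * (2 * e ^ 2 + 2 * e) + 1 := by subst he; ring
    omega
  have h3 : q ^ 4 - 1 = (q ^ 2 + 1) * (q ^ 2 - 1) := by
    have := Nat.sq_sub_sq (q ^ 2) 1
    rw [← pow_mul] at this
    simpa using this
  constructor
  · refine ⟨2 * e ^ 2 + 2 * e + 1, ?_⟩
    rw [h3, h1, mul_assoc, Nat.mul_div_cancel_left _ (by norm_num), mul_comm]
  · refine ⟨2 * e ^ 2 + 2 * e, ?_⟩
    rw [h3, mul_comm, h2, mul_assoc, Nat.mul_div_cancel_left _ (by norm_num), mul_comm]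

section

variable {R : Multiset K} (hq : Function.Injective (fun x : K => x ^ q)) (hq0 : 0 < q)
include hq

/-- `2 d m ≤ |R|` -/
theorem dm_le (h : Inv q R) {μ : K} {d : ℕ} (hd : IsMin q μ d) : R.count μ * (2 * d) ≤ R.card := by
  obtain ⟨R', h1, h2, h3, h4, h5⟩ := peel hq h hd
  omega

theorem d_le (h : Inv q R) {μ : K} {d : ℕ} (hd : IsMin q μ d) (hμ : μ ∈ R) : 2 * d ≤ R.card := by
  have h1 := dm_le hq h hd
  have h2 : 1 ≤ R.count μ := Multiset.one_le_count_iff_mem.2 hμ
  nlinarith

/-- multiplicities -/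
theorem cnt_le (h : Inv q R) (x : K) : 2 * R.count x ≤ R.card := by
  by_cases hx : x ∈ R
  · obtain ⟨d, hd⟩ := exists_isMin hq h hx
    have h1 := dm_le hq h hd
    have h2 := hd.pos
    nlinarith
  · rw [Multiset.count_eq_zero_of_notMem hx]
    omega

omit [DecidableEq K] hq in
include hq0 in
/-- the exponent -/
theorem IsMin.pow {x : K} {d : ℕ} (hd : IsMin q x d) : x ^ (q ^ d - 1) = 1 ∨ x ^ (q ^ d + 1) = 1 := by
  rcases hd.eq with h | h
  · exact Or.inl (pow_sub_of_eq hd.ne0 (pow_pos hq0 d) h)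
  · exact Or.inr (pow_add_of_eq hd.ne0 h)

omit [DecidableEq K] hq in
include hq0 in
theorem IsMin.pow_one {x : K} (hd : IsMin q x 1) : x ^ (q ^ 2 - 1) = 1 := by
  rcases hd.pow hq0 with h | h
  · rw [_root_.pow_one] at h
    exact pow_dvd h (sub_one_dvd q 2)
  · rw [_root_.pow_one] at h
    exact pow_dvd h (add_one_dvd_sq q)

omit hq in
/-- exponents on orbits -/
theorem ex_orb {μ x : K} {d N : ℕ} (hx : x ∈ orb q μ d) (h : μ ^ N = 1) : x ^ N = 1 := by
  obtain ⟨i, _, rfl | rfl⟩ := mem_orb.1 hx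
  · rw [← pow_mul, mul_comm, pow_mul, h, one_pow]
  · rw [inv_pow, ← pow_mul, mul_comm, pow_mul, h, one_pow, inv_one]

include hq0

theorem one (h : Inv q R) (hc : R.card = 2) : Bd R 1 (q - 1) ∨ Bd R 1 (q + 1) := by
  obtain ⟨μ, hμ⟩ := Multiset.card_pos_iff_exists_mem.1 (by omega : 0 < R.card)
  obtain ⟨d, hd⟩ := exists_isMin hq h hμ
  have h1 := d_le hq h hd hμ
  have h2 := hd.pos
  obtain rfl : d = 1 := by omega
  have hcnt : ∀ x, R.count x ≤ 1 := fun x => by have := cnt_le hq h x; omega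
  obtain ⟨R', h3, h4, h5, h6, h7⟩ := peel hq h hd
  have h8 : 1 ≤ R.count μ := Multiset.one_le_count_iff_mem.2 hμ
  have hR' : R'.card = 0 := by omega
  rw [Multiset.card_eq_zero] at hR'
  have hmem : ∀ x ∈ R, x ∈ orb q μ 1 := by
    intro x hx
    by_contra hno
    have := (h5 x).2 ⟨hx, hno⟩
    rw [hR'] at this
    exact Multiset.notMem_zero x this
  rcases hd.pow hq0 with h9 | h9
  · exact Or.inl ⟨hcnt, fun x hx => ex_orb (hmem x hx) (by rwa [_root_.pow_one] at h9)⟩
  · exact Or.inr ⟨hcnt, fun x hx => ex_orb (hmem x hx) (by rwa [_root_.pow_one] at h9)⟩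

omit hq hq0 in
/-- all elements have `d ≤ 2` and `μ ^ (q²) = μ` -/
theorem ex_sq {R : Multiset K} (h : ∀ x ∈ R, x ≠ 0) (hq0 : 0 < q)
    (h2 : ∀ x ∈ R, x ^ (q ^ 2) = x) : ∀ x ∈ R, x ^ (q ^ 2 - 1) = 1 :=
  fun x hx => pow_sub_of_eq (h x hx) (pow_pos hq0 2) (h2 x hx)

/-- the two cases when all `d ≤ 2` -/
theorem small_cases (h : Inv q R) (hd2 : ∀ x ∈ R, ∀ d, IsMin q x d → d ≤ 2) :
    (∃ μ ∈ R, IsMin q μ 2 ∧ μ ^ (q ^ 2 + 1) = 1) ∨ (∀ x ∈ R, x ^ (q ^ 2 - 1) = 1) := by
  by_cases hex : ∃ μ ∈ R, IsMin q μ 2 ∧ μ ^ (q ^ 2 + 1) = 1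
  · exact Or.inl hex
  · right
    intro x hx
    obtain ⟨d, hd⟩ := exists_isMin hq h hx
    have h1 := hd2 x hx d hd
    have h2 := hd.pos
    rcases (by omega : d = 1 ∨ d = 2) with rfl | rfl
    · exact hd.pow_one hq0
    · rcases hd.pow hq0 with h3 | h3
      · exact h3
      · exact absurd ⟨x, hx, hd, h3⟩ hex

theorem half_ex {e : ℕ} (he : q = 2 * e + 1) (h : Inv q R) (hd2 : ∀ x ∈ R, ∀ d, IsMin q x d → d ≤ 2) :
    ∀ x ∈ R, x ^ ((q ^ 4 - 1) / 2) = 1 := by
  intro x hx
  obtain ⟨d, hd⟩ := exists_isMin hq h hx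
  have h1 := hd2 x hx d hd
  have h2 := hd.pos
  have h3 := half_four he
  rcases (by omega : d = 1 ∨ d = 2) with rfl | rfl
  · exact pow_dvd (hd.pow_one hq0) h3.1
  · rcases hd.pow hq0 with h4 | h4
    · exact pow_dvd h4 h3.1
    · exact pow_dvd h4 h3.2

theorem two (h : Inv q R) (hc : R.card = 4) : Bd R 1 (q ^ 2 + 1) ∨ Bd R 2 (q ^ 2 - 1) := by
  have hd2 : ∀ x ∈ R, ∀ d, IsMin q x d → d ≤ 2 := fun x hx d hd => by
    have := d_le hq h hd hx; omega
  rcases small_cases hq hq0 h hd2 with ⟨μ, hμ, hd, h1⟩ | h1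
  · left
    obtain ⟨R', h3, h4, h5, h6, h7⟩ := peel hq h hd
    have h8 : 1 ≤ R.count μ := Multiset.one_le_count_iff_mem.2 hμ
    have h9 : R.count μ = 1 := by omega
    have hR' : R'.card = 0 := by omega
    rw [Multiset.card_eq_zero] at hR'
    have hmem : ∀ x ∈ R, x ∈ orb q μ 2 := by
      intro x hx
      by_contra hno
      have := (h5 x).2 ⟨hx, hno⟩
      rw [hR'] at this
      exact Multiset.notMem_zero x this
    refine ⟨fun x => ?_, fun x hx => ex_orb (hmem x hx) h1⟩
    by_cases hx : x ∈ R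
    · rw [count_orb h (hmem x hx), h9]
    · rw [Multiset.count_eq_zero_of_notMem hx]; omega
  · right
    exact ⟨fun x => by have := cnt_le hq h x; omega, h1⟩

theorem three {e : ℕ} (he : q = 2 * e + 1) (h : Inv q R) (hc : R.card = 6) :
    Bd R 1 (q ^ 3 - 1) ∨ Bd R 1 (q ^ 3 + 1) ∨ Bd R 1 ((q ^ 4 - 1) / 2) ∨ Bd R 3 (q ^ 2 - 1) := by
  by_cases hbig : ∃ μ ∈ R, ∃ d, IsMin q μ d ∧ 3 ≤ d
  · obtain ⟨μ, hμ, d, hd, h3d⟩ := hbig
    have h1 := d_le hq h hd hμ
    obtain rfl : d = 3 := by omega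
    obtain ⟨R', h3, h4, h5, h6, h7⟩ := peel hq h hd
    have h8 : 1 ≤ R.count μ := Multiset.one_le_count_iff_mem.2 hμ
    have h9 : R.count μ = 1 := by omega
    have hR' : R'.card = 0 := by omega
    rw [Multiset.card_eq_zero] at hR'
    have hmem : ∀ x ∈ R, x ∈ orb q μ 3 := by
      intro x hx
      by_contra hno
      have := (h5 x).2 ⟨hx, hno⟩
      rw [hR'] at this
      exact Multiset.notMem_zero x this
    have hcnt : ∀ x, R.count x ≤ 1 := by
      intro x
      by_cases hx : x ∈ R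
      · rw [count_orb h (hmem x hx), h9]
      · rw [Multiset.count_eq_zero_of_notMem hx]; omega
    rcases hd.pow hq0 with h10 | h10
    · exact Or.inl ⟨hcnt, fun x hx => ex_orb (hmem x hx) h10⟩
    · exact Or.inr (Or.inl ⟨hcnt, fun x hx => ex_orb (hmem x hx) h10⟩)
  · push Not at hbig
    have hd2 : ∀ x ∈ R, ∀ d, IsMin q x d → d ≤ 2 := fun x hx d hd => by
      have := hbig x hx d hd; omega
    right; right
    rcases small_cases hq hq0 h hd2 with ⟨μ, hμ, hd, h1⟩ | h1
    · left
      obtain ⟨R', h3, h4, h5, h6, h7⟩ := peel hq h hd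
      have h8 : 1 ≤ R.count μ := Multiset.one_le_count_iff_mem.2 hμ
      have h9 : R.count μ = 1 := by omega
      have hR' : R'.card = 2 := by omega
      refine ⟨fun x => ?_, half_ex hq hq0 he h hd2⟩
      by_cases hx : x ∈ R
      · by_cases hxo : x ∈ orb q μ 2
        · rw [count_orb h hxo, h9]
        · rw [← h6 x ((h5 x).2 ⟨hx, hxo⟩)]
          have := cnt_le hq h4 x
          omega
      · rw [Multiset.count_eq_zero_of_notMem hx]; omega
    · right
      exact ⟨fun x => by have := cnt_le hq h x; omega, h1⟩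

theorem four {e : ℕ} (he : q = 2 * e + 1) (hsub : ∀ x y : K, (x - y) ^ q = x ^ q - y ^ q) (h2K : (2 : K) ≠ 0)
    (h : Inv q R) (hc : R.card = 8) (hphi : phi R ^ e = 1) :
    (∃ μ, IsMin q μ 4 ∧ μ ^ (q ^ 4) = μ ∧ R = (orb q μ 4).val) ∨ Bd R 1 (q ^ 3 - 1) ∨ Bd R 1 (q ^ 3 + 1) ∨
      Bd R 1 ((q ^ 4 - 1) / 2) ∨ Bd R 2 (q ^ 2 + 1) ∨ Bd R 3 (q ^ 2 - 1) ∨ Bd R 4 (q - 1) ∨ Bd R 4 (q + 1) := by
  have hm1 : (-1 : K) ≠ 1 := by
    intro h1
    apply h2K
    have : (2 : K) = 1 - (-1) := by norm_num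
    rw [this, h1, sub_self]
  by_cases hbig : ∃ μ ∈ R, ∃ d, IsMin q μ d ∧ 4 ≤ d
  · obtain ⟨μ, hμ, d, hd, h3d⟩ := hbig
    have h1 := d_le hq h hd hμ
    obtain rfl : d = 4 := by omega
    obtain ⟨R', h3, h4, h5, h6, h7⟩ := peel hq h hd
    have h8 : 1 ≤ R.count μ := Multiset.one_le_count_iff_mem.2 hμ
    have h9 : R.count μ = 1 := by omega
    have hR' : R'.card = 0 := by omega
    rw [Multiset.card_eq_zero] at hR'
    rw [h9, one_nsmul, hR', add_zero] at h3
    left
    refine ⟨μ, hd, ?_, h3⟩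
    rcases hd.eq with h10 | h10
    · exact h10
    · exfalso
      have h11 := (phi_orb hq hsub he hd).2 h10
      rw [← h3, hphi] at h11
      apply hm1
      have h12 : (-1 : K) ^ (4 * e) = 1 := by rw [pow_mul]; norm_num
      rw [h12, one_mul] at h11
      exact h11.symm
  · push Not at hbig
    right
    by_cases hbig3 : ∃ μ ∈ R, ∃ d, IsMin q μ d ∧ 3 ≤ d
    · obtain ⟨μ, hμ, d, hd, h3d⟩ := hbig3
      have h1 := hbig μ hμ d hd
      obtain rfl : d = 3 := by omega
      obtain ⟨R', h3, h4, h5, h6, h7⟩ := peel hq h hd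
      have h8 : 1 ≤ R.count μ := Multiset.one_le_count_iff_mem.2 hμ
      have h9 : R.count μ = 1 := by omega
      have hR' : R'.card = 2 := by omega
      obtain ⟨ν, hν⟩ := Multiset.card_pos_iff_exists_mem.1 (by omega : 0 < R'.card)
      obtain ⟨d', hd'⟩ := exists_isMin hq h4 hν
      have h10 := d_le hq h4 hd' hν
      have h11 := hd'.pos
      obtain rfl : d' = 1 := by omega
      obtain ⟨R'', k3, k4, k5, k6, k7⟩ := peel hq h4 hd'
      have k8 : 1 ≤ R'.count ν := Multiset.one_le_count_iff_mem.2 hν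
      have k9 : R'.count ν = 1 := by omega
      have hR'' : R''.card = 0 := by omega
      rw [Multiset.card_eq_zero] at hR''
      rw [k9, one_nsmul, hR'', add_zero] at k3
      rw [h9, one_nsmul] at h3
      have hphi2 : phi (orb q μ 3).val ^ e * phi (orb q ν 1).val ^ e = 1 := by
        rw [← mul_pow, ← phi_add, ← k3, ← h3, hphi]
      have hcnt : ∀ x, R.count x ≤ 1 := by
        intro x
        by_cases hx : x ∈ R
        · by_cases hxo : x ∈ orb q μ 3
          · rw [count_orb h hxo, h9]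
          · rw [← h6 x ((h5 x).2 ⟨hx, hxo⟩)]
            have := cnt_le hq h4 x
            omega
        · rw [Multiset.count_eq_zero_of_notMem hx]; omega
      have hsplit : ∀ x ∈ R, x ∈ orb q μ 3 ∨ x ∈ orb q ν 1 := by
        intro x hx
        rw [h3, Multiset.mem_add] at hx
        rcases hx with hx | hx
        · exact Or.inl hx
        · rw [k3] at hx
          exact Or.inr hx
      have e1 := phi_orb hq hsub he hd
      have e2 := phi_orb hq hsub he hd'
      have hs : (-1 : K) ^ (3 * e) * (-1) ^ (1 * e) = 1 := by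
        rw [← pow_add, ← add_mul, pow_mul]; norm_num
      rcases hd.eq with c1 | c1
      · rcases hd'.eq with c2 | c2
        · left
          refine ⟨hcnt, fun x hx => ?_⟩
          rcases hsplit x hx with hx' | hx'
          · exact ex_orb hx' (pow_sub_of_eq hd.ne0 (pow_pos hq0 3) c1)
          · refine ex_orb hx' (pow_dvd (pow_sub_of_eq hd'.ne0 (pow_pos hq0 1) c2) ?_)
            rw [_root_.pow_one]
            exact sub_one_dvd q 3
        · exfalso
          rw [e1.1 c1, e2.2 c2, ← mul_assoc, hs, one_mul] at hphi2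
          exact hm1 hphi2
      · rcases hd'.eq with c2 | c2
        · exfalso
          rw [e1.2 c1, e2.1 c2, mul_assoc, mul_comm (-1 : K), ← mul_assoc, hs, one_mul] at hphi2
          exact hm1 hphi2
        · right; left
          refine ⟨hcnt, fun x hx => ?_⟩
          rcases hsplit x hx with hx' | hx'
          · exact ex_orb hx' (pow_add_of_eq hd.ne0 c1)
          · refine ex_orb hx' (pow_dvd (pow_add_of_eq hd'.ne0 c2) ?_)
            rw [_root_.pow_one]
            exact add_one_dvd_cube q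
    · push Not at hbig3
      have hd2 : ∀ x ∈ R, ∀ d, IsMin q x d → d ≤ 2 := fun x hx d hd => by
        have := hbig3 x hx d hd; omega
      right; right
      rcases small_cases hq hq0 h hd2 with ⟨μ, hμ, hd, h1⟩ | h1
      · obtain ⟨R', h3, h4, h5, h6, h7⟩ := peel hq h hd
        have h8 : 1 ≤ R.count μ := Multiset.one_le_count_iff_mem.2 hμ
        by_cases h9 : R.count μ = 1
        · left
          refine ⟨fun x => ?_, half_ex hq hq0 he h hd2⟩
          by_contra hx2
          push Not at hx2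
          have hx : x ∈ R := Multiset.one_le_count_iff_mem.1 (by omega)
          have hxo : x ∉ orb q μ 2 := by
            intro hxo
            rw [count_orb h hxo, h9] at hx2
            omega
          have hxR' : x ∈ R' := (h5 x).2 ⟨hx, hxo⟩
          obtain ⟨d', hd'⟩ := exists_isMin hq h4 hxR'
          have h10 := dm_le hq h4 hd'
          rw [h6 x hxR'] at h10
          have h11 := hd'.pos
          have h12 : R'.card = 4 := by omega
          have h13 : d' = 1 := by nlinarith
          subst h13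
          have h14 : R.count x = 2 := by omega
          obtain ⟨R'', k3, k4, k5, k6, k7⟩ := peel hq h4 hd'
          rw [h6 x hxR', h14] at k3 k7
          have hR'' : R''.card = 0 := by omega
          rw [Multiset.card_eq_zero] at hR''
          rw [hR'', add_zero] at k3
          rw [h9, one_nsmul] at h3
          have hphi2 : phi (orb q μ 2).val ^ e * (phi (orb q x 1).val ^ e) ^ 2 = 1 := by
            rw [← pow_mul, mul_comm e 2, pow_mul, ← mul_pow, ← phi_nsmul, ← phi_add, ← k3, ← h3, hphi]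
          have e1 := (phi_orb hq hsub he hd).2 (by
            rw [← mul_left_inj' hd.ne0, inv_mul_cancel₀ hd.ne0, ← pow_succ, h1])
          have e2 : (phi (orb q x 1).val ^ e) ^ 2 = 1 := by
            have e3 := phi_orb hq hsub he hd'
            have e4 : ((-1 : K) ^ (1 * e)) ^ 2 = 1 := by rw [← pow_mul, mul_comm, pow_mul]; norm_num
            rcases hd'.eq with c2 | c2
            · rw [e3.1 c2, e4]
            · rw [e3.2 c2, mul_pow, e4]; norm_num
          rw [e1, e2, mul_one, pow_mul] at hphi2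
          apply hm1
          simpa using hphi2
        · right; left
          have h10 : R.count μ = 2 := by omega
          rw [h10] at h7
          have hR' : R'.card = 0 := by omega
          rw [Multiset.card_eq_zero] at hR'
          have hmem : ∀ x ∈ R, x ∈ orb q μ 2 := by
            intro x hx
            by_contra hno
            have := (h5 x).2 ⟨hx, hno⟩
            rw [hR'] at this
            exact Multiset.notMem_zero x this
          refine ⟨fun x => ?_, fun x hx => ex_orb (hmem x hx) h1⟩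
          by_cases hx : x ∈ R
          · rw [count_orb h (hmem x hx), h10]
          · rw [Multiset.count_eq_zero_of_notMem hx]; omega
      · right; right
        by_cases hc3 : ∀ x, R.count x ≤ 3
        · exact Or.inl ⟨hc3, h1⟩
        · push Not at hc3
          obtain ⟨μ, hμ3⟩ := hc3
          have hμ : μ ∈ R := Multiset.one_le_count_iff_mem.1 (by omega)
          obtain ⟨d, hd⟩ := exists_isMin hq h hμ
          have h2 := dm_le hq h hd
          have h3 := hd.pos
          have h4 : d = 1 := by nlinarith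
          subst h4
          have h5 : R.count μ = 4 := by omega
          obtain ⟨R', k3, k4, k5, k6, k7⟩ := peel hq h hd
          have hR' : R'.card = 0 := by omega
          rw [Multiset.card_eq_zero] at hR'
          have hmem : ∀ x ∈ R, x ∈ orb q μ 1 := by
            intro x hx
            by_contra hno
            have := (k5 x).2 ⟨hx, hno⟩
            rw [hR'] at this
            exact Multiset.notMem_zero x this
          have hcnt : ∀ x, R.count x ≤ 4 := fun x => by have := cnt_le hq h x; omega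
          right
          rcases hd.pow hq0 with h9 | h9
          · exact Or.inl ⟨hcnt, fun x hx => ex_orb (hmem x hx) (by rwa [_root_.pow_one] at h9)⟩
          · exact Or.inr ⟨hcnt, fun x hx => ex_orb (hmem x hx) (by rwa [_root_.pow_one] at h9)⟩

end

end Cfsg.Agent.H160.QRoots
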