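import Mathlib
import Cfsg.Agent.H160.QChar
import Cfsg.Agent.H160.QSemi
import Cfsg.Agent.H160.QSplit

/-!
# Orders of isometries without eigenvalue one of the eight-dimensional space of plus type (helper160)
-/

set_option autoImplicit false

namespace Cfsg.Agent.H160.QUpper

open QuadraticMap Module
open Cfsg.Agent.LieClassical.OrthCore Cfsg.Agent.H160.QSpin Cfsg.Agent.H160.QDisc Cfsg.Agent.H160.QSplit
  Cfsg.Agent.H160.QSemi Cfsg.Agent.H160.QRoots Cfsg.Agent.H160.QChar

section Unip

variable {F V : Type*} [Field F] [AddCommGroup V] [Module F V] {p : ℕ} [hp : Fact p.Prime] [CharP F p]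

/-- `(f - 1) ^ (p ^ c) = f ^ (p ^ c) - 1` -/
theorem sub_one_pow_char (f : Module.End F V) (c : ℕ) : (f - 1) ^ (p ^ c) = f ^ (p ^ c) - 1 := by
  have h : ((Polynomial.X : Polynomial F) - 1) ^ (p ^ c) = Polynomial.X ^ (p ^ c) - 1 := by
    rw [sub_pow_char_pow, one_pow]
  have h1 := congrArg (Polynomial.aeval f) h
  simpa using h1

theorem unip_pow {g : V ≃ₗ[F] V} {n c : ℕ} (h : (en g - 1) ^ n = 0) (hc : n ≤ p ^ c) : g ^ (p ^ c) = 1 := by
  apply en_inj
  rw [en_pow]
  have h1 : (en g - 1) ^ (p ^ c) = 0 := pow_eq_zero_of_le hc h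
  rw [sub_one_pow_char, sub_eq_zero] at h1
  exact h1

omit hp [CharP F p] in
theorem neg_pow_two : (LinearEquiv.neg F : V ≃ₗ[F] V) ^ 2 = 1 := by
  ext v
  rw [pow_two]
  show - - v = v
  exact neg_neg v

omit hp [CharP F p] in
theorem neg_comm (g : V ≃ₗ[F] V) : Commute (LinearEquiv.neg F : V ≃ₗ[F] V) g := by
  ext v
  show -(g v) = g (-v)
  rw [map_neg]

omit hp [CharP F p] in
theorem neg_mul_pow {g : V ≃ₗ[F] V} {m : ℕ} (h : g ^ m = 1) : (LinearEquiv.neg F * g) ^ (2 * m) = 1 := by
  rw [(neg_comm g).mul_pow, pow_mul, neg_pow_two, one_pow, one_mul, mul_comm, pow_mul, h, one_pow]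

omit hp [CharP F p] in
theorem pow_dvd_one {g : V ≃ₗ[F] V} {m n : ℕ} (h : g ^ m = 1) (hmn : m ∣ n) : g ^ n = 1 := by
  obtain ⟨k, rfl⟩ := hmn
  rw [pow_mul, h, one_pow]

end Unip

variable {F : Type*} [Field F] [Fintype F] [DecidableEq F] {V : Type*} [AddCommGroup V] [Module F V]
  [FiniteDimensional F V] [Finite V] {p : ℕ} [hp : Fact p.Prime] [CharP F p]

omit [DecidableEq F] [FiniteDimensional F V] [Finite V] hp [CharP F p] in
theorem card_odd_eq (h2 : (2 : F) ≠ 0) : ∃ e, Fintype.card F = 2 * e + 1 := by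
  have hchar : ringChar F ≠ 2 := by
    intro h
    apply h2
    have := ringChar.spec F 2
    rw [h] at this
    exact_mod_cast this.2 dvd_rfl
  have := FiniteField.odd_card_of_char_ne_two hchar
  exact ⟨Fintype.card F / 2, by omega⟩

/-- no eigenvalues `±1` -/
theorem upper_no_neg (h2 : (2 : F) ≠ 0) (hp3 : 3 ≤ p) {Q : QuadraticForm F V} (hQ : Nondeg Q) (hV : finrank F V = 8)
    (hdc : dc Q = 1) {g : V ≃ₗ[F] V} (hg : El Q 1 g) (h1 : ∀ v, g v = v → v = 0) (hm1 : ∀ v, g v = -v → v = 0) :
    g ^ ((Fintype.card F ^ 4 - 1) / 2) = 1 ∨ g ^ (Fintype.card F ^ 3 - 1) = 1 ∨ g ^ (Fintype.card F ^ 3 + 1) = 1 ∨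
      g ^ (p * (Fintype.card F ^ 2 - 1)) = 1 ∨ g ^ (p * (Fintype.card F ^ 2 + 1)) = 1 ∨
      (p = 3 ∧ g ^ (9 * (Fintype.card F - 1)) = 1) ∨ (p = 3 ∧ g ^ (9 * (Fintype.card F + 1)) = 1) := by
  classical
  obtain ⟨hgO, hdet, hsp⟩ := hg
  obtain ⟨e, he⟩ := card_odd_eq h2
  have hq0 : 0 < Fintype.card F := Fintype.card_pos
  have hInv := inv_rts hQ hgO h1 hm1
  have hcard := card_rts (en g)
  rw [hV] at hcard
  have hdet1 : LinearMap.det (en g) = 1 := by
    have := congrArg Units.val hdet
    rwa [LinearEquiv.coe_det] at this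
  obtain ⟨hne, hdcQ⟩ := dc_of_no_pm hQ hgO h1 hm1 hdet1
  have hphi : phi (rts (en g)) ^ e = 1 := by
    rw [phi_rts, ← map_pow]
    have h3 : ((en g).charpoly.eval 1 * (en g).charpoly.eval (-1)) ^ e = 1 := by
      rw [hdc] at hdcQ
      have h4 := (quadraticChar_one_iff_isSquare hne).1 hdcQ.symm
      obtain ⟨a, ha⟩ := h4
      have ha0 : a ≠ 0 := by rintro rfl; rw [ha] at hne; simp at hne
      rw [ha, ← pow_two, ← pow_mul]
      have h5 : 2 * e = Fintype.card F - 1 := by omega
      rw [h5]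
      exact FiniteField.pow_card_sub_one_eq_one a ha0
    rw [h3, map_one]
  have h2K : (2 : AlgebraicClosure F) ≠ 0 := by
    intro h
    apply h2
    apply (algebraMap F (AlgebraicClosure F)).injective
    rw [map_ofNat, map_zero, h]
  -- exponents
  have hex : ∀ {M N c : ℕ}, Bd (rts (en g)) M N → M ≤ p ^ c → g ^ (N * p ^ c) = 1 := by
    intro M N c hB hc
    apply en_inj
    rw [en_pow]
    exact pow_eq_one_of_bd hB hc
  rcases four (frob_inj F) hq0 he (frob_sub F) h2K hInv hcard hphi with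
    ⟨μ, hmin, hμ, hR⟩ | hB | hB | hB | hB | hB | hB | hB
  · -- the semiregular case
    left
    have hcount : ∀ x, (rts (en g)).count x ≤ 1 := by
      intro x
      rw [hR]
      exact Multiset.nodup_iff_count_le_one.1 (orb _ μ 4).nodup x
    have hbd : ∀ i, μ ^ i = 1 → g ^ i = 1 := by
      intro i hi
      have hB : Bd (rts (en g)) 1 i := by
        refine ⟨hcount, fun x hx => ?_⟩
        rw [hR] at hx
        exact ex_orb hx hi
      have := hex (c := 0) hB (by simp)
      simpa using this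
    have hfix : ∀ i v, v ≠ 0 → (g ^ i) v = v → g ^ i = 1 := by
      intro i v hv hgv
      apply hbd
      by_contra hμi
      apply hv
      refine no_fixed (g := en g) (n := i) (fun x hx hxi => hμi ?_) (v := v) ?_
      · rw [hR] at hx
        obtain ⟨j, _, rfl | rfl⟩ := mem_orb.1 hx
        · rw [← pow_mul, mul_comm, pow_mul] at hxi
          have h6 : (μ ^ i) ^ (Fintype.card F ^ j) = 1 ^ (Fintype.card F ^ j) := by rw [hxi, one_pow]
          exact inj_pow (frob_inj F) j h6
        · rw [inv_pow, ← pow_mul, mul_comm, pow_mul, inv_eq_one] at hxi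
          have h6 : (μ ^ i) ^ (Fintype.card F ^ j) = 1 ^ (Fintype.card F ^ j) := by rw [hxi, one_pow]
          exact inj_pow (frob_inj F) j h6
      · rw [← en_pow]
        exact hgv
    have hn : 0 < orderOf g := by
      have hfin : Finite (V ≃ₗ[F] V) := Finite.of_injective (fun g : V ≃ₗ[F] V => (g : V → V)) DFunLike.coe_injective
      exact orderOf_pos g
    have hdvd : orderOf g ∣ Fintype.card F ^ 4 - 1 :=
      orderOf_dvd_of_pow_eq_one (hbd _ (pow_sub_of_eq hmin.ne0 (pow_pos hq0 4) hμ))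
    have hpos4 : 1 ≤ Fintype.card F ^ 4 := Nat.one_le_pow _ _ hq0
    have heven4 : Fintype.card F ^ 4 - 1 = 2 * ((Fintype.card F ^ 4 - 1) / 2) := by
      have h7 : Odd (Fintype.card F ^ 4) := Odd.pow ⟨e, he⟩
      obtain ⟨k, hk⟩ := h7
      omega
    apply orderOf_dvd_iff_pow_eq_one.1
    rcases semireg h2 hQ hV hdc ⟨hgO, hdet, hsp⟩ hn (pow_orderOf_eq_one g) (fun i hi hin v hv hgv =>
      pow_ne_one_of_lt_orderOf hi.ne' hin (hfix i v hv hgv)) with ho | hd
    · rw [heven4] at hdvd
      exact (Nat.Coprime.dvd_mul_left (Nat.Coprime.symm (by simpa using ho.coprime_two_left))).1 hdvd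
    · have hcop : Nat.Coprime (2 * orderOf g) (Fintype.card F ^ 3) := by
        apply Nat.Coprime.pow_right
        apply Nat.Coprime.mul_left
        · have ho : Odd (Fintype.card F) := ⟨e, he⟩
          simpa using ho.coprime_two_left
        · have h8 : Nat.Coprime (Fintype.card F ^ 4 - 1) (Fintype.card F) := by
            have h9 : Nat.Coprime (Fintype.card F ^ 4 - 1) (Fintype.card F ^ 4) :=
              (Nat.coprime_self_sub_left hpos4).2 (Nat.coprime_one_left _)
            exact (Nat.coprime_pow_right_iff (by norm_num) _ _).1 h9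
          exact Nat.Coprime.coprime_dvd_left hdvd h8
      have h10 := hcop.dvd_of_dvd_mul_left hd
      rw [heven4] at h10
      exact Nat.dvd_of_mul_dvd_mul_left (by norm_num) h10
  · right; left
    simpa using hex (c := 0) hB (by simp)
  · right; right; left
    simpa using hex (c := 0) hB (by simp)
  · left
    simpa using hex (c := 0) hB (by simp)
  · right; right; right; right; left
    have := hex (c := 1) hB (by rw [pow_one]; omega)
    rwa [pow_one, mul_comm] at this
  · right; right; right; left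
    have := hex (c := 1) hB (by rw [pow_one]; omega)
    rwa [pow_one, mul_comm] at this
  · by_cases h5 : p = 3
    · right; right; right; right; right; left
      refine ⟨h5, ?_⟩
      have := hex (c := 2) hB (by subst h5; norm_num)
      rw [h5, mul_comm] at this
      exact this
    · right; right; right; left
      have h6 : 4 ≤ p := by omega
      have := hex (c := 1) hB (by rw [pow_one]; exact h6)
      rw [pow_one, mul_comm] at this
      exact pow_dvd_one this (Nat.mul_dvd_mul_left p (sub_one_dvd _ 2))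
  · by_cases h5 : p = 3
    · right; right; right; right; right; right
      refine ⟨h5, ?_⟩
      have := hex (c := 2) hB (by subst h5; norm_num)
      rw [h5, mul_comm] at this
      exact this
    · right; right; right; left
      have h6 : 4 ≤ p := by omega
      have := hex (c := 1) hB (by rw [pow_one]; exact h6)
      rw [pow_one, mul_comm] at this
      exact pow_dvd_one this (Nat.mul_dvd_mul_left p (add_one_dvd_sq _))

omit [Fintype F] [DecidableEq F] [FiniteDimensional F V] [Finite V] hp [CharP F p] in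
theorem cj_symm_cj {W : Type*} [AddCommGroup W] [Module F W] (e : V ≃ₗ[F] W) (g : V ≃ₗ[F] V) :
    cj e.symm (cj e g) = g := by
  ext v
  simp [cj_apply]

/-- **Upper bounds for the orders.** -/
theorem upper (h2 : (2 : F) ≠ 0) (hp3 : 3 ≤ p) {Q : QuadraticForm F V} (hQ : Nondeg Q) (hV : finrank F V = 8)
    (hdc : dc Q = 1) {g : V ≃ₗ[F] V} (hg : El Q 1 g) (h1 : ∀ v, g v = v → v = 0) :
    g ^ ((Fintype.card F ^ 4 - 1) / 2) = 1 ∨ g ^ (Fintype.card F ^ 3 - 1) = 1 ∨ g ^ (Fintype.card F ^ 3 + 1) = 1 ∨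
      g ^ (p * (Fintype.card F ^ 2 - 1)) = 1 ∨ g ^ (p * (Fintype.card F ^ 2 + 1)) = 1 ∨
      (p = 3 ∧ g ^ (9 * (Fintype.card F - 1)) = 1) ∨ (p = 3 ∧ g ^ (9 * (Fintype.card F + 1)) = 1) ∨
      (p = 5 ∧ g ^ 50 = 1) := by
  classical
  by_cases hm1 : ∀ v, g v = -v → v = 0
  · rcases upper_no_neg h2 hp3 hQ hV hdc hg h1 hm1 with h | h | h | h | h | h | h
    · exact Or.inl h
    · exact Or.inr (Or.inl h)
    · exact Or.inr (Or.inr (Or.inl h))
    · exact Or.inr (Or.inr (Or.inr (Or.inl h)))
    · exact Or.inr (Or.inr (Or.inr (Or.inr (Or.inl h))))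
    · exact Or.inr (Or.inr (Or.inr (Or.inr (Or.inr (Or.inl h)))))
    · exact Or.inr (Or.inr (Or.inr (Or.inr (Or.inr (Or.inr (Or.inl h))))))
  obtain ⟨hgO, hdet, hsp⟩ := hg
  obtain ⟨e', he'⟩ := card_odd_eq h2
  have hq0 : 0 < Fintype.card F := Fintype.card_pos
  have hkO : LinearEquiv.neg F * g ∈ O Q := (O Q).mul_mem (neg_mem_O Q) hgO
  obtain ⟨n₁, n₂, Q₁, Q₂, g₁, g₂, e, he, hk, hno, hnil⟩ := split hkO
  have hgeq : g = cj e (pr (LinearEquiv.neg F * g₁) (LinearEquiv.neg F * g₂)) := by
    have h3 : LinearEquiv.neg F * (LinearEquiv.neg F * g) = g := by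
      rw [← mul_assoc, ← pow_two, neg_pow_two, one_mul]
    rw [← h3, hk, pr_mul, cj_mul, pr_neg, cj_neg]
  obtain ⟨hQ₁, hQ₂⟩ := nondeg_of_prod (he.symm.nondeg hQ)
  have hprO : pr g₁ g₂ ∈ O (Q₁.prod Q₂) := by
    have := cj_mem_O he.symm hkO
    rwa [hk, cj_symm_cj] at this
  obtain ⟨hg₁, hg₂⟩ := pr_mem_O_iff.1 hprO
  have hdim : n₁ + n₂ = 8 := by
    have := e.finrank_eq
    rw [hV] at this
    simpa using this
  obtain ⟨k₁, hk₁⟩ : ∃ k, k = LinearEquiv.neg F * g₁ := ⟨_, rfl⟩
  obtain ⟨k₂, hk₂⟩ : ∃ k, k = LinearEquiv.neg F * g₂ := ⟨_, rfl⟩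
  rw [← hk₁, ← hk₂] at hgeq
  have hk₁O : k₁ ∈ O Q₁ := by rw [hk₁]; exact (O Q₁).mul_mem (neg_mem_O Q₁) hg₁
  have hk1no : ∀ v, k₁ v = v → v = 0 := by
    intro x hx
    have h3 : g (e (x, 0)) = e (x, 0) := by
      conv_lhs => rw [hgeq, cj_apply', pr_apply]
      simp only [map_zero, hx]
    have h4 := h1 _ h3
    rw [e.map_eq_zero_iff] at h4
    exact congrArg Prod.fst h4
  have hk1nm : ∀ v, k₁ v = -v → v = 0 := by
    intro x hx
    apply hno
    have h3 : k₁ x = - (g₁ x) := by rw [hk₁]; rfl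
    rw [h3] at hx
    exact neg_injective hx
  -- parity
  have hm1F : (-1 : F) ≠ 1 := by
    intro h3
    apply h2
    have : (2 : F) = 1 - (-1) := by norm_num
    rw [this, h3, sub_self]
  have hpar : (-1 : F) ^ n₁ = 1 := by
    have h3 := det_of_no_one hQ₁ hk₁O hk1no
    have h4 := det_of_no_one hQ₁ hg₁ hno
    have h5 : en k₁ = (-1 : F) • en g₁ := by
      apply LinearMap.ext
      intro x
      rw [hk₁]
      show -(g₁ x) = (-1 : F) • (g₁ x)
      rw [neg_one_smul]
    rw [h5, LinearMap.det_smul, h4] at h3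
    simp only [finrank_fintype_fun_eq_card, Fintype.card_fin] at h3
    have h6 : (-1 : F) ^ n₁ * (-1) ^ n₁ = 1 := by rw [← mul_pow]; norm_num
    rw [h6] at h3
    exact h3.symm
  have heven : Even n₁ := by
    by_contra hodd
    rw [Nat.not_even_iff_odd] at hodd
    rw [hodd.neg_one_pow] at hpar
    exact hm1F hpar
  have hInv := inv_rts hQ₁ hk₁O hk1no hk1nm
  have hcard := card_rts (en k₁)
  simp only [finrank_fintype_fun_eq_card, Fintype.card_fin] at hcard
  have hex : ∀ {M N c : ℕ}, Bd (rts (en k₁)) M N → M ≤ p ^ c → k₁ ^ (N * p ^ c) = 1 := by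
    intro M N c hB hc
    apply en_inj
    rw [en_pow]
    exact pow_eq_one_of_bd hB hc
  have hdone : ∀ N, k₁ ^ N = 1 → k₂ ^ N = 1 → g ^ N = 1 := by
    intro N hN1 hN2
    rw [hgeq, ← cj_pow, pr_pow, hN1, hN2, pr_one, cj_one]
  have hqodd : Odd (Fintype.card F) := ⟨e', he'⟩
  have hn1 : n₁ = 0 ∨ n₁ = 2 ∨ n₁ = 4 ∨ n₁ = 6 ∨ n₁ = 8 := by
    obtain ⟨t, ht⟩ := heven
    omega
  have hnil' : ∀ m, n₂ = m + 1 → Odd m → (en g₂ - 1) ^ m = 0 := by
    intro m hm hmo
    exact unip_even h2 hQ₂ hg₂ (by simp [hm]) hmo (by rw [← hm]; exact hnil)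
  rcases hn1 with hn | hn | hn | hn | hn
  · -- everything has eigenvalue -1
    have h7 := hnil' 7 (by omega) (by decide)
    have hk1one : k₁ = 1 := by
      subst hn
      ext x i
      exact i.elim0
    rcases (by omega : p = 3 ∨ p = 5 ∨ 7 ≤ p ∨ p = 4 ∨ p = 6) with h | h | h | h | h
    · right; right; right; right; right; left
      refine ⟨h, hdone _ (by rw [hk1one, one_pow]) ?_⟩
      have h8 : g₂ ^ (p ^ 2) = 1 := unip_pow h7 (by rw [h]; norm_num)
      rw [hk₂]
      refine pow_dvd_one (neg_mul_pow h8) ?_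
      rw [h]
      obtain ⟨t, ht⟩ : 2 ∣ Fintype.card F - 1 := ⟨e', by omega⟩
      exact ⟨t, by rw [ht]; ring⟩
    · right; right; right; right; right; right; right
      refine ⟨h, hdone _ (by rw [hk1one, one_pow]) ?_⟩
      have h8 : g₂ ^ (p ^ 2) = 1 := unip_pow h7 (by rw [h]; norm_num)
      rw [hk₂]
      refine pow_dvd_one (neg_mul_pow h8) ?_
      rw [h]
      norm_num
    · right; right; right; left
      refine hdone _ (by rw [hk1one, one_pow]) ?_
      have h8 : g₂ ^ (p ^ 1) = 1 := unip_pow h7 (by rw [pow_one]; exact h)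
      rw [hk₂]
      refine pow_dvd_one (neg_mul_pow h8) ?_
      rw [pow_one, mul_comm]
      exact Nat.mul_dvd_mul_left p ((even_iff_two_dvd.1 (Nat.Odd.sub_odd hqodd.pow odd_one)))
    · exact absurd hp.out (by rw [h]; norm_num)
    · exact absurd hp.out (by rw [h]; norm_num)
  · -- n₁ = 2
    have h5 := hnil' 5 (by omega) (by decide)
    have hB := one (frob_inj F) hq0 hInv (by rw [hcard, hn])
    by_cases h3 : p = 3
    · have h8 : g₂ ^ (p ^ 2) = 1 := unip_pow h5 (by rw [h3]; norm_num)
      have h9 : k₂ ^ (2 * p ^ 2) = 1 := by rw [hk₂]; exact neg_mul_pow h8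
      rcases hB with hB | hB
      · right; right; right; right; right; left
        refine ⟨h3, hdone _ ?_ ?_⟩
        · have := hex (c := 0) hB (by simp)
          rw [pow_zero, mul_one] at this
          exact pow_dvd_one this (Dvd.intro_left 9 rfl)
        · refine pow_dvd_one h9 ?_
          rw [h3]
          obtain ⟨t, ht⟩ : 2 ∣ Fintype.card F - 1 := ⟨e', by omega⟩
          exact ⟨t, by rw [ht]; ring⟩
      · right; right; right; right; right; right; left
        refine ⟨h3, hdone _ ?_ ?_⟩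
        · have := hex (c := 0) hB (by simp)
          rw [pow_zero, mul_one] at this
          exact pow_dvd_one this (Dvd.intro_left 9 rfl)
        · refine pow_dvd_one h9 ?_
          rw [h3]
          obtain ⟨t, ht⟩ : 2 ∣ Fintype.card F + 1 := ⟨e' + 1, by omega⟩
          exact ⟨t, by rw [ht]; ring⟩
    · have hp5 : 5 ≤ p := by
        rcases (by omega : p = 4 ∨ 5 ≤ p) with h | h
        · exact absurd hp.out (by rw [h]; norm_num)
        · exact h
      have h8 : g₂ ^ (p ^ 1) = 1 := unip_pow h5 (by rw [pow_one]; exact hp5)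
      have h9 : k₂ ^ (2 * p ^ 1) = 1 := by rw [hk₂]; exact neg_mul_pow h8
      right; right; right; left
      refine hdone _ ?_ ?_
      · rcases hB with hB | hB
        · have := hex (c := 0) hB (by simp)
          rw [pow_zero, mul_one] at this
          exact pow_dvd_one this ((sub_one_dvd _ 2).trans (Dvd.intro_left p rfl))
        · have := hex (c := 0) hB (by simp)
          rw [pow_zero, mul_one] at this
          exact pow_dvd_one this ((add_one_dvd_sq _).trans (Dvd.intro_left p rfl))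
      · refine pow_dvd_one h9 ?_
        rw [pow_one, mul_comm]
        exact Nat.mul_dvd_mul_left p ((even_iff_two_dvd.1 (Nat.Odd.sub_odd hqodd.pow odd_one)))
  · -- n₁ = 4
    have h3 := hnil' 3 (by omega) (by decide)
    have h8 : g₂ ^ (p ^ 1) = 1 := unip_pow h3 (by rw [pow_one]; exact hp3)
    have h9 : k₂ ^ (2 * p ^ 1) = 1 := by rw [hk₂]; exact neg_mul_pow h8
    rcases two (frob_inj F) hq0 hInv (by rw [hcard, hn]) with hB | hB
    · right; right; right; right; left
      refine hdone _ ?_ ?_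
      · have := hex (c := 0) hB (by simp)
        rw [pow_zero, mul_one] at this
        exact pow_dvd_one this (Dvd.intro_left p rfl)
      · refine pow_dvd_one h9 ?_
        rw [pow_one, mul_comm]
        exact Nat.mul_dvd_mul_left p ((even_iff_two_dvd.1 (Odd.add_odd hqodd.pow odd_one)))
    · right; right; right; left
      refine hdone _ ?_ ?_
      · have := hex (c := 1) hB (by rw [pow_one]; omega)
        rwa [pow_one, mul_comm] at this
      · refine pow_dvd_one h9 ?_
        rw [pow_one, mul_comm]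
        exact Nat.mul_dvd_mul_left p ((even_iff_two_dvd.1 (Nat.Odd.sub_odd hqodd.pow odd_one)))
  · -- n₁ = 6
    have h3 := hnil' 1 (by omega) (by decide)
    have h8 : g₂ ^ (p ^ 0) = 1 := unip_pow h3 (by simp)
    have h9 : k₂ ^ (2 * p ^ 0) = 1 := by rw [hk₂]; exact neg_mul_pow h8
    rw [pow_zero, mul_one] at h9
    have hhalf := half_four he'
    rcases three (frob_inj F) hq0 he' hInv (by rw [hcard, hn]) with hB | hB | hB | hB
    · right; left
      refine hdone _ ?_ (pow_dvd_one h9 ?_)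
      · have := hex (c := 0) hB (by simp)
        rwa [pow_zero, mul_one] at this
      · exact even_iff_two_dvd.1 (Nat.Odd.sub_odd hqodd.pow odd_one)
    · right; right; left
      refine hdone _ ?_ (pow_dvd_one h9 ?_)
      · have := hex (c := 0) hB (by simp)
        rwa [pow_zero, mul_one] at this
      · exact even_iff_two_dvd.1 (Odd.add_odd hqodd.pow odd_one)
    · left
      refine hdone _ ?_ (pow_dvd_one h9 ?_)
      · have := hex (c := 0) hB (by simp)
        rwa [pow_zero, mul_one] at this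
      · exact (even_iff_two_dvd.1 (Nat.Odd.sub_odd hqodd.pow odd_one)).trans hhalf.1
    · right; right; right; left
      refine hdone _ ?_ (pow_dvd_one h9 ?_)
      · have := hex (c := 1) hB (by rw [pow_one]; exact hp3)
        rwa [pow_one, mul_comm] at this
      · exact (even_iff_two_dvd.1 (Nat.Odd.sub_odd hqodd.pow odd_one)).trans (Dvd.intro_left p rfl)
  · -- n₁ = 8
    exfalso
    apply hm1
    intro v hv
    obtain ⟨⟨x, y⟩, rfl⟩ := e.surjective v
    have hn2 : n₂ = 0 := by omega
    have hy : y = 0 := by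
      subst hn2
      ext i
      exact i.elim0
    subst hy
    rw [hgeq, cj_apply', pr_apply, ← map_neg] at hv
    have h3 := congrArg Prod.fst (e.injective hv)
    have h4 : x = 0 := hk1nm x h3
    rw [h4]
    exact map_zero e

end Cfsg.Agent.H160.QUpper
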