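import Mathlib
import Cfsg.Agent.H160.QDisc
import Cfsg.Agent.H160.QSplit
import Cfsg.Agent.H160.QUpper

/-!
# Realisable tuples (dimension, class, spinor sign, order) (helper160)

* `Rz F n d s N` : some nondegenerate quadratic space of dimension `n` and class `d` has an isometry of determinant
  one, spinor sign `s` and order `N`;
* `Rg F n d s N P` : moreover `(g - 1) ^ P v = 0 ≠ (g - 1) ^ (P - 1) v` for some `v`.
-/

set_option autoImplicit false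

namespace Cfsg.Agent.H160.QReal

open QuadraticMap Module
open Cfsg.Agent.LieClassical.OrthCore Cfsg.Agent.H160.QSpin Cfsg.Agent.H160.QDisc Cfsg.Agent.H160.QSplit

variable {F : Type*} [Field F] [Fintype F] [DecidableEq F]

/-- a vector with `(g - 1) ^ P v = 0 ≠ (g - 1) ^ (P - 1) v` -/
def Jd {V : Type*} [AddCommGroup V] [Module F V] (g : V ≃ₗ[F] V) (P : ℕ) : Prop :=
  ∃ v, ((en g - 1) ^ P) v = 0 ∧ ((en g - 1) ^ (P - 1)) v ≠ 0

/-- realisable tuples -/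
def Rz (F : Type*) [Field F] [Fintype F] [DecidableEq F] (n : ℕ) (d : ℤ) (s : ℤˣ) (N : ℕ) : Prop :=
  ∃ (Q : QuadraticForm F (Fin n → F)) (g : (Fin n → F) ≃ₗ[F] (Fin n → F)),
    Nondeg Q ∧ dc Q = d ∧ El Q s g ∧ orderOf g = N

/-- realisable tuples with a Jordan vector -/
def Rg (F : Type*) [Field F] [Fintype F] [DecidableEq F] (n : ℕ) (d : ℤ) (s : ℤˣ) (N P : ℕ) : Prop :=
  ∃ (Q : QuadraticForm F (Fin n → F)) (g : (Fin n → F) ≃ₗ[F] (Fin n → F)),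
    Nondeg Q ∧ dc Q = d ∧ El Q s g ∧ orderOf g = N ∧ Jd g P

theorem Rg.rz {n : ℕ} {d : ℤ} {s : ℤˣ} {N P : ℕ} (h : Rg F n d s N P) : Rz F n d s N := by
  obtain ⟨Q, g, h1, h2, h3, h4, -⟩ := h
  exact ⟨Q, g, h1, h2, h3, h4⟩

section Transport

variable {V W : Type*} [AddCommGroup V] [Module F V] [FiniteDimensional F V] [Finite V]
  [AddCommGroup W] [Module F W] [FiniteDimensional F W] [Finite W]

omit [Fintype F] [DecidableEq F] [FiniteDimensional F V] [Finite V] [FiniteDimensional F W] [Finite W] in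
theorem en_cj_sub_pow (e : V ≃ₗ[F] W) (g : V ≃ₗ[F] V) (k : ℕ) (x : V) :
    ((en (cj e g) - 1) ^ k) (e x) = e (((en g - 1) ^ k) x) := by
  induction k with
  | zero => rfl
  | succ k ih =>
    rw [pow_succ', Module.End.mul_apply, pow_succ', Module.End.mul_apply, ih, LinearMap.sub_apply,
      LinearMap.sub_apply, map_sub]
    congr 1
    exact cj_apply' e g _

omit [Fintype F] [DecidableEq F] [FiniteDimensional F V] [Finite V] [FiniteDimensional F W] [Finite W] in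
theorem Jd.cj {e : V ≃ₗ[F] W} {g : V ≃ₗ[F] V} {P : ℕ} (h : Jd g P) : Jd (QSpin.cj e g) P := by
  obtain ⟨v, h1, h2⟩ := h
  refine ⟨e v, ?_, ?_⟩
  · rw [en_cj_sub_pow, h1, map_zero]
  · rw [en_cj_sub_pow]
    exact fun h3 => h2 (e.map_eq_zero_iff.1 h3)

omit [Fintype F] [DecidableEq F] [FiniteDimensional F V] [Finite V] [FiniteDimensional F W] [Finite W] in
theorem en_pr_sub_pow (g : V ≃ₗ[F] V) (h : W ≃ₗ[F] W) (k : ℕ) (x : V × W) :
    ((en (pr g h) - 1) ^ k) x = (((en g - 1) ^ k) x.1, ((en h - 1) ^ k) x.2) := by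
  induction k with
  | zero => rfl
  | succ k ih =>
    rw [pow_succ', Module.End.mul_apply, pow_succ', Module.End.mul_apply, pow_succ', Module.End.mul_apply, ih]
    rfl

omit [Fintype F] [DecidableEq F] [FiniteDimensional F V] [Finite V] [FiniteDimensional F W] [Finite W] in
theorem Jd.pr {g : V ≃ₗ[F] V} {h : W ≃ₗ[F] W} {P : ℕ} (hh : Jd h P) : Jd (QSpin.pr g h) P := by
  obtain ⟨v, h1, h2⟩ := hh
  refine ⟨(0, v), ?_, ?_⟩
  · rw [en_pr_sub_pow, h1, map_zero]; rfl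
  · rw [en_pr_sub_pow]
    exact fun h3 => h2 (congrArg Prod.snd h3)

theorem Rz.of {Q : QuadraticForm F V} (hQ : Nondeg Q) {s : ℤˣ} {g : V ≃ₗ[F] V} (hg : El Q s g) {n : ℕ}
    (hn : finrank F V = n) : Rz F n (dc Q) s (orderOf g) := by
  obtain ⟨Q', e, he⟩ := exists_fin Q hn
  exact ⟨Q', cj e g, he.nondeg hQ, dc_iso he, hg.cj he, orderOf_cj e g⟩

theorem Rg.of {Q : QuadraticForm F V} (hQ : Nondeg Q) {s : ℤˣ} {g : V ≃ₗ[F] V} (hg : El Q s g) {n P : ℕ}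
    (hn : finrank F V = n) (hJ : Jd g P) : Rg F n (dc Q) s (orderOf g) P := by
  obtain ⟨Q', e, he⟩ := exists_fin Q hn
  exact ⟨Q', cj e g, he.nondeg hQ, dc_iso he, hg.cj he, orderOf_cj e g, hJ.cj⟩

end Transport

theorem Rz.add (h2 : (2 : F) ≠ 0) {n₁ n₂ : ℕ} {d₁ d₂ : ℤ} {s₁ s₂ : ℤˣ} {N₁ N₂ : ℕ} (h₁ : Rz F n₁ d₁ s₁ N₁)
    (h₂ : Rz F n₂ d₂ s₂ N₂) : Rz F (n₁ + n₂) (d₁ * d₂) (s₁ * s₂) (N₁.lcm N₂) := by
  obtain ⟨Q₁, g₁, a1, a2, a3, a4⟩ := h₁
  obtain ⟨Q₂, g₂, b1, b2, b3, b4⟩ := h₂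
  have := Rz.of (nondeg_prod a1 b1) (El.pr h2 a1 b1 a3 b3) (n := n₁ + n₂) (by simp)
  rwa [dc_prod, a2, b2, orderOf_pr, a4, b4] at this

theorem Rz.addg (h2 : (2 : F) ≠ 0) {n₁ n₂ : ℕ} {d₁ d₂ : ℤ} {s₁ s₂ : ℤˣ} {N₁ N₂ P : ℕ} (h₁ : Rz F n₁ d₁ s₁ N₁)
    (h₂ : Rg F n₂ d₂ s₂ N₂ P) : Rg F (n₁ + n₂) (d₁ * d₂) (s₁ * s₂) (N₁.lcm N₂) P := by
  obtain ⟨Q₁, g₁, a1, a2, a3, a4⟩ := h₁
  obtain ⟨Q₂, g₂, b1, b2, b3, b4, b5⟩ := h₂
  have := Rg.of (nondeg_prod a1 b1) (El.pr h2 a1 b1 a3 b3) (n := n₁ + n₂) (P := P) (by simp) b5.pr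
  rwa [dc_prod, a2, b2, orderOf_pr, a4, b4] at this

theorem Rz.pow {n : ℕ} {d : ℤ} {s : ℤˣ} {N : ℕ} (h : Rz F n d s N) {M : ℕ} (hN : N ≠ 0) (hM : M ∣ N) :
    Rz F n d (s ^ (N / M)) M := by
  obtain ⟨Q, g, a1, a2, a3, a4⟩ := h
  refine ⟨Q, g ^ (N / M), a1, a2, a3.pow _, ?_⟩
  have h1 : M ≠ 0 := by rintro rfl; exact hN (Nat.eq_zero_of_zero_dvd hM)
  rw [← a4] at hM hN ⊢
  have := orderOf_pow_orderOf_div hN hM
  exact this

theorem Rz.dvd {n : ℕ} {d : ℤ} {N : ℕ} (h : Rz F n d 1 N) {M : ℕ} (hN : N ≠ 0) (hM : M ∣ N) : Rz F n d 1 M := by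
  have := h.pow hN hM
  rwa [one_pow] at this

theorem rz_one (h2 : (2 : F) ≠ 0) {n : ℕ} (hn : n ≠ 0) {d : ℤ} (hd : d = 1 ∨ d = -1) : Rz F n d 1 1 := by
  obtain ⟨m, rfl⟩ := Nat.exists_eq_succ_of_ne_zero hn
  obtain ⟨Q, hQ, hc⟩ := exists_form h2 hd m
  exact ⟨Q, 1, hQ, hc, El.one Q, orderOf_one⟩

theorem rg_one (h2 : (2 : F) ≠ 0) {n : ℕ} (hn : n ≠ 0) {d : ℤ} (hd : d = 1 ∨ d = -1) : Rg F n d 1 1 1 := by
  obtain ⟨m, rfl⟩ := Nat.exists_eq_succ_of_ne_zero hn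
  obtain ⟨Q, hQ, hc⟩ := exists_form h2 hd m
  refine ⟨Q, 1, hQ, hc, El.one Q, orderOf_one, fun _ => 1, ?_, ?_⟩
  · show (fun _ => (1 : F)) - (fun _ => (1 : F)) = 0
    rw [sub_self]
  · intro h
    have := congrFun h 0
    exact one_ne_zero this

/-- `-1` on a plane -/
theorem rz_neg (h2 : (2 : F) ≠ 0) (s : ℤˣ) : Rz F 2 s s 2 := by
  have hs : (s : ℤ) = 1 ∨ (s : ℤ) = -1 := by
    rcases Int.units_eq_one_or s with rfl | rfl
    · exact Or.inl rfl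
    · exact Or.inr rfl
  obtain ⟨Q, hQ, hc⟩ := exists_form h2 hs 1
  refine ⟨Q, LinearEquiv.neg F, hQ, hc, el_neg h2 hQ (by simp) hc.symm, ?_⟩
  apply orderOf_eq_prime QUpper.neg_pow_two
  intro h
  have h1 := congrFun (congrArg (fun g : (Fin 2 → F) ≃ₗ[F] (Fin 2 → F) => g (fun _ => 1)) h) 0
  have h3 : (-1 : F) = 1 := h1
  apply h2
  have : (2 : F) = 1 - (-1) := by norm_num
  rw [this, h3, sub_self]

/-- all signs occur on every plane -/
theorem rz_plane (h2 : (2 : F) ≠ 0) {d : ℤ} (hd : d = 1 ∨ d = -1) (s : ℤˣ) : ∃ N, N ≠ 0 ∧ Rz F 2 d s N := by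
  obtain ⟨Q, hQ, hc⟩ := exists_form h2 hd 1
  have hval : ∀ c : F, ∃ v, Q v = c := by
    intro c
    obtain ⟨v, hv⟩ := ClassicalGeometry.Discriminant.exists_value h2 (polarBilin Q) (isSymm_bilin Q)
      (nondeg_bilin hQ) (by simp) (2 * c)
    refine ⟨v, ?_⟩
    rw [← two_mul_Q] at hv
    exact mul_left_cancel₀ h2 hv
  have hs : (s : ℤ) = 1 ∨ (s : ℤ) = -1 := by
    rcases Int.units_eq_one_or s with rfl | rfl
    · exact Or.inl rfl
    · exact Or.inr rfl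
  obtain ⟨c, hc0, hcs⟩ := exists_qc (F := F) h2 hs
  obtain ⟨v, hv⟩ := hval 1
  obtain ⟨w, hw⟩ := hval c
  have hv0 : Q v ≠ 0 := by rw [hv]; exact one_ne_zero
  have hw0 : Q w ≠ 0 := by rw [hw]; exact hc0
  have hfin : Finite ((Fin 2 → F) ≃ₗ[F] (Fin 2 → F)) :=
    Finite.of_injective (fun g : (Fin 2 → F) ≃ₗ[F] (Fin 2 → F) => (g : (Fin 2 → F) → (Fin 2 → F)))
      DFunLike.coe_injective
  refine ⟨orderOf (refl Q v hv0 * refl Q w hw0), (orderOf_pos _).ne', Q, _, hQ, hc,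
    ⟨(O Q).mul_mem (refl_mem_O hv0) (refl_mem_O hw0), ?_, ?_⟩, rfl⟩
  · rw [map_mul, det_refl, det_refl]; simp
  · have h3 : (⟨refl Q v hv0 * refl Q w hw0, (O Q).mul_mem (refl_mem_O hv0) (refl_mem_O hw0)⟩ : O Q) =
        ⟨refl Q v hv0, refl_mem_O hv0⟩ * ⟨refl Q w hw0, refl_mem_O hw0⟩ := rfl
    rw [h3, map_mul]
    apply Units.ext
    rw [Units.val_mul, spin_refl_int h2, spin_refl_int h2, hv, hw, hcs, map_one]
    ring

/-! ### The sum over the powers -/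

section Sum

variable {V : Type*} [AddCommGroup V] [Module F V] {p : ℕ} [hp : Fact p.Prime] [CharP F p]

omit [Fintype F] [DecidableEq F] in
open Polynomial in
/-- `∑ X ^ i = (X - 1) ^ (P - 1) U ^ P` -/
theorem geom_poly (a m : ℕ) : (∑ i ∈ Finset.range (p ^ a * m), (X : F[X]) ^ i) =
    (X - 1) ^ (p ^ a - 1) * (∑ i ∈ Finset.range m, (X : F[X]) ^ i) ^ (p ^ a) := by
  have hX : (X - 1 : F[X]) ≠ 0 := by
    rw [← C_1]; exact X_sub_C_ne_zero 1
  apply mul_right_cancel₀ hX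
  have hP : 0 < p ^ a := pow_pos hp.out.pos a
  rw [geom_sum_mul]
  have h1 : (X : F[X]) ^ (p ^ a * m) - 1 = (X ^ m - 1) ^ (p ^ a) := by
    rw [sub_pow_char_pow, one_pow, ← pow_mul, mul_comm]
  rw [h1, ← geom_sum_mul, mul_pow]
  have h2 : (X - 1 : F[X]) ^ (p ^ a) = (X - 1) ^ (p ^ a - 1) * (X - 1) := by
    rw [← pow_succ, Nat.sub_add_cancel hP]
  rw [h2]
  ring

omit [Fintype F] [DecidableEq F] in
theorem geom_end (f : Module.End F V) (a m : ℕ) : (∑ i ∈ Finset.range (p ^ a * m), f ^ i) =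
    (f - 1) ^ (p ^ a - 1) * (∑ i ∈ Finset.range m, f ^ i) ^ (p ^ a) := by
  have := congrArg (Polynomial.aeval f) (geom_poly (F := F) (p := p) a m)
  simpa [map_sum] using this

omit [Fintype F] [DecidableEq F] in
/-- the criterion -/
theorem sum_ne_iff {g : V ≃ₗ[F] V} {a m : ℕ} (hm : ¬ p ∣ m) (hg : g ^ (p ^ a * m) = 1) :
    (∃ v, ∑ i ∈ Finset.range (p ^ a * m), (g ^ i) v ≠ 0) ↔ Jd g (p ^ a) := by
  have hP : 0 < p ^ a := pow_pos hp.out.pos a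
  have hsum : ∀ v, ∑ i ∈ Finset.range (p ^ a * m), (g ^ i) v =
      ((en g - 1) ^ (p ^ a - 1) * (∑ i ∈ Finset.range m, (en g) ^ i) ^ (p ^ a)) v := by
    intro v
    rw [← geom_end, LinearMap.sum_apply]
    refine Finset.sum_congr rfl fun i _ => ?_
    rw [← en_pow]; rfl
  have hcomm : Commute ((en g - 1) ^ (p ^ a - 1)) ((∑ i ∈ Finset.range m, (en g) ^ i) ^ (p ^ a)) := by
    apply Commute.pow_pow
    apply Commute.sum_right
    intro i _
    exact ((Commute.refl _).sub_left (Commute.one_left _)).pow_right i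
  have hkill : (en g - 1) * ((en g - 1) ^ (p ^ a - 1) * (∑ i ∈ Finset.range m, (en g) ^ i) ^ (p ^ a)) = 0 := by
    rw [← geom_end, mul_geom_sum, ← en_pow, hg]
    exact sub_self _
  constructor
  · rintro ⟨v, hv⟩
    rw [hsum] at hv
    refine ⟨((∑ i ∈ Finset.range m, (en g) ^ i) ^ (p ^ a)) v, ?_, ?_⟩
    · have h1 : (en g - 1) ^ (p ^ a) = (en g - 1) * (en g - 1) ^ (p ^ a - 1) := by
        rw [← pow_succ', Nat.sub_add_cancel hP]
      rw [h1, ← Module.End.mul_apply, mul_assoc, hkill, LinearMap.zero_apply]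
    · exact hv
  · rintro ⟨v, h1, h2⟩
    refine ⟨v, ?_⟩
    rw [hsum, hcomm.eq, Module.End.mul_apply]
    set w := ((en g - 1) ^ (p ^ a - 1)) v with hw
    have hgw : en g w = w := by
      have h3 : (en g - 1) w = 0 := by
        rw [hw, ← Module.End.mul_apply, ← pow_succ', Nat.sub_add_cancel hP, h1]
      rw [LinearMap.sub_apply, sub_eq_zero] at h3
      exact h3
    have hgi : ∀ i : ℕ, ((en g) ^ i) w = w := by
      intro i
      induction i with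
      | zero => rfl
      | succ i ih => rw [pow_succ, Module.End.mul_apply, hgw, ih]
    have hU : (∑ i ∈ Finset.range m, (en g) ^ i) w = (m : F) • w := by
      rw [LinearMap.sum_apply, Finset.sum_congr rfl (fun i _ => hgi i), Finset.sum_const, Finset.card_range,
        Nat.cast_smul_eq_nsmul]
    have hUk : ∀ k : ℕ, ((∑ i ∈ Finset.range m, (en g) ^ i) ^ k) w = ((m : F) ^ k) • w := by
      intro k
      induction k with
      | zero => simp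
      | succ k ih => rw [pow_succ, Module.End.mul_apply, hU, map_smul, ih, smul_smul, pow_succ, mul_comm]
    rw [hUk]
    have hmF : (m : F) ≠ 0 := by
      rw [Ne, CharP.cast_eq_zero_iff F p]
      exact hm
    exact smul_ne_zero (pow_ne_zero _ hmF) h2

end Sum

end Cfsg.Agent.H160.QReal
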