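import Mathlib
import Cfsg.Agent.H160.QReal
import Cfsg.Agent.H160.QModel
import Cfsg.Agent.H160.QUpper

/-!
# Orders of elements of `Ω₉(q)` and of `q⁸ : Ω₈⁻(q)` in terms of realisable tuples (helper160)
-/

set_option autoImplicit false
set_option linter.unusedSectionVars false

namespace Cfsg.Agent.H160.QMain

open QuadraticMap Module
open Cfsg.Agent.LieClassical.OrthCore Cfsg.Agent.H160.QSpin Cfsg.Agent.H160.QDisc Cfsg.Agent.H160.QSplit
  Cfsg.Agent.H160.QReal Cfsg.Agent.H160.QModel Cfsg.Agent.H160.QUpper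

variable {F : Type*} [Field F] [Fintype F] [DecidableEq F] {p : ℕ} [hp : Fact p.Prime] [CharP F p]

omit [Fintype F] [DecidableEq F] hp [CharP F p] in
theorem neg_one_ne (h2 : (2 : F) ≠ 0) : (-1 : F) ≠ 1 := by
  intro h3
  apply h2
  have : (2 : F) = 1 - (-1) := by norm_num
  rw [this, h3, sub_self]

/-- splitting an element of determinant one and trivial spinor sign -/
theorem split_el (h2 : (2 : F) ≠ 0) {V : Type*} [AddCommGroup V] [Module F V] [FiniteDimensional F V] [Finite V]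
    {Q : QuadraticForm F V} (hQ : Nondeg Q) {g : V ≃ₗ[F] V} (hg : El Q 1 g) :
    ∃ (n₁ n₂ : ℕ) (Q₁ : QuadraticForm F (Fin n₁ → F)) (Q₂ : QuadraticForm F (Fin n₂ → F))
      (g₁ : (Fin n₁ → F) ≃ₗ[F] (Fin n₁ → F)) (g₂ : (Fin n₂ → F) ≃ₗ[F] (Fin n₂ → F)) (b : ℕ),
      n₁ + n₂ = finrank F V ∧ Nondeg Q₁ ∧ Nondeg Q₂ ∧ dc Q = dc Q₁ * dc Q₂ ∧ El Q₁ 1 g₁ ∧ El Q₂ 1 g₂ ∧
      orderOf g = (orderOf g₁).lcm (orderOf g₂) ∧ (∀ x, g₁ x = x → x = 0) ∧ (en g₂ - 1) ^ n₂ = 0 ∧ Even n₁ ∧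
      orderOf g₂ = p ^ b ∧ (∀ P, 0 < P → Jd g P → Jd g₂ P) := by
  obtain ⟨hgO, hdet, hsp⟩ := hg
  obtain ⟨n₁, n₂, Q₁, Q₂, g₁, g₂, e, he, hge, hno, hnil⟩ := split hgO
  obtain ⟨hQ₁, hQ₂⟩ := nondeg_of_prod (he.symm.nondeg hQ)
  have hprO : pr g₁ g₂ ∈ O (Q₁.prod Q₂) := by
    have := cj_mem_O he.symm hgO
    rwa [hge, cj_symm_cj] at this
  obtain ⟨hg₁, hg₂⟩ := pr_mem_O_iff.1 hprO
  have hdim : n₁ + n₂ = finrank F V := by
    have := e.finrank_eq
    rw [← this]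
    simp
  obtain ⟨a, ha⟩ : ∃ a, n₂ ≤ p ^ a := ⟨n₂, (Nat.lt_pow_self hp.out.one_lt).le⟩
  obtain ⟨b, _, hb⟩ := (Nat.dvd_prime_pow hp.out).1 (orderOf_dvd_of_pow_eq_one (unip_pow (p := p) hnil ha))
  have hg₂el : El Q₂ 1 g₂ := El.of_odd hQ₂ hg₂ (by rw [hb]; exact (odd_p (F := F) h2).pow)
  have hdet₁ : LinearEquiv.det g₁ = 1 := by
    have h3 : LinearEquiv.det g = LinearEquiv.det g₁ * LinearEquiv.det g₂ := by
      rw [hge, det_cj, det_pr]
    rw [hdet, hg₂el.2.1, mul_one] at h3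
    exact h3.symm
  have hsp₁ : spin Q₁ ⟨g₁, hg₁⟩ = 1 := by
    have h3 := spin_cj he hprO
    have h4 : (⟨cj e (pr g₁ g₂), cj_mem_O he hprO⟩ : O Q) = ⟨g, hgO⟩ := Subtype.ext hge.symm
    rw [h4, hsp, spin_pr h2 hQ₁ hQ₂ hg₁ hg₂, hg₂el.2.2, mul_one] at h3
    exact h3.symm
  have hpar : Even n₁ := by
    by_contra hodd
    rw [Nat.not_even_iff_odd] at hodd
    have h3 := det_of_no_one hQ₁ hg₁ hno
    have h4 : LinearMap.det (en g₁) = 1 := by
      have := congrArg Units.val hdet₁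
      rwa [LinearEquiv.coe_det] at this
    rw [h4] at h3
    simp only [finrank_fintype_fun_eq_card, Fintype.card_fin] at h3
    rw [hodd.neg_one_pow] at h3
    exact neg_one_ne h2 h3.symm
  refine ⟨n₁, n₂, Q₁, Q₂, g₁, g₂, b, hdim, hQ₁, hQ₂, ?_, ⟨hg₁, hdet₁, hsp₁⟩, hg₂el, ?_, hno, hnil, hpar, hb, ?_⟩
  · rw [dc_iso he, dc_prod]
  · rw [hge, orderOf_cj, orderOf_pr]
  · intro P hP hJ
    obtain ⟨v, h3, h4⟩ := hJ
    obtain ⟨⟨x, y⟩, rfl⟩ := e.surjective v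
    rw [hge, en_cj_sub_pow, en_pr_sub_pow, e.map_eq_zero_iff] at h3
    rw [hge, en_cj_sub_pow, en_pr_sub_pow, Ne, e.map_eq_zero_iff] at h4
    have h5 : ((en g₁ - 1) ^ P) x = 0 := congrArg Prod.fst h3
    have h6 : ((en g₂ - 1) ^ P) y = 0 := congrArg Prod.snd h3
    have hinj : ∀ k : ℕ, ∀ x, ((en g₁ - 1) ^ k) x = 0 → x = 0 := by
      intro k
      induction k with
      | zero => intro x hx; exact hx
      | succ k ih =>
        intro x hx
        rw [pow_succ, Module.End.mul_apply] at hx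
        have h7 := ih _ hx
        rw [LinearMap.sub_apply, sub_eq_zero] at h7
        exact hno x h7
    have hx0 := hinj P x h5
    refine ⟨y, h6, fun h7 => h4 ?_⟩
    rw [hx0]
    apply Prod.ext
    · show ((en g₁ - 1) ^ (P - 1)) 0 = 0
      rw [map_zero]
    · exact h7

/-- from orders in dimension eight to orders in dimension nine -/
theorem dirA (h2 : (2 : F) ≠ 0) {d₉ : ℤ} (hd₉ : d₉ = 1 ∨ d₉ = -1) {V : Type*} [AddCommGroup V] [Module F V]
    [FiniteDimensional F V] [Finite V] (hV : finrank F V = 8) {Q : QuadraticForm F V} (hQ : Nondeg Q)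
    {g : V ≃ₗ[F] V} (hg : El Q 1 g) : Rz F 9 d₉ 1 (orderOf g) := by
  have h3 : d₉ * dc Q = 1 ∨ d₉ * dc Q = -1 := by
    rcases hd₉ with rfl | rfl <;> rcases dc_cases hQ with h | h <;> rw [h] <;> simp
  have h := (Rz.of hQ hg hV).add h2 (rz_one h2 (n := 1) one_ne_zero h3)
  have h4 : dc Q * (d₉ * dc Q) = d₉ := by
    rcases dc_cases hQ with h | h <;> rw [h] <;> ring
  rw [h4, mul_one, Nat.lcm_one_right] at h
  exact h

/-- `p` times the order -/
theorem dirA' (h2 : (2 : F) ≠ 0) {d₉ : ℤ} (hd₉ : d₉ = 1 ∨ d₉ = -1) {V : Type*} [AddCommGroup V] [Module F V]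
    [FiniteDimensional F V] [Finite V] (hV : finrank F V = 8) {Q : QuadraticForm F V} (hQ : Nondeg Q)
    {g : V ≃ₗ[F] V} (hg : El Q 1 g) (hv : ∃ v, ∑ i ∈ Finset.range (orderOf g), (g ^ i) v ≠ 0) :
    Rz F 9 d₉ 1 (p * orderOf g) := by
  obtain ⟨n₁, n₂, Q₁, Q₂, g₁, g₂, b, hdim, hQ₁, hQ₂, hdc, hg₁, hg₂, hord, hno, hnil, heven, hb, hJ⟩ :=
    split_el (p := p) h2 hQ hg
  rw [hV] at hdim
  have hn0 : orderOf g ≠ 0 := by
    have hfin : Finite (V ≃ₗ[F] V) := Finite.of_injective (fun g : V ≃ₗ[F] V => (g : V → V)) DFunLike.coe_injective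
    exact (orderOf_pos g).ne'
  have hn10 : orderOf g₁ ≠ 0 := by
    have hfin : Finite ((Fin n₁ → F) ≃ₗ[F] (Fin n₁ → F)) :=
      Finite.of_injective (fun g : (Fin n₁ → F) ≃ₗ[F] (Fin n₁ → F) => (g : (Fin n₁ → F) → (Fin n₁ → F)))
        DFunLike.coe_injective
    exact (orderOf_pos g₁).ne'
  obtain ⟨a, m, hm, ham⟩ := Nat.exists_eq_pow_mul_and_not_dvd hn0 p hp.out.ne_one
  rw [ham] at hv
  have hJg := (sum_ne_iff hm (by rw [← ham]; exact pow_orderOf_eq_one g)).1 hv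
  have hPpos : 0 < p ^ a := pow_pos hp.out.pos a
  obtain ⟨y, hy1, hy2⟩ := hJ _ hPpos hJg
  -- `p ^ a ≤ n₂`
  have hle : p ^ a ≤ n₂ := by
    by_contra hlt
    push Not at hlt
    apply hy2
    have : (en g₂ - 1) ^ (p ^ a - 1) = 0 := pow_eq_zero_of_le (by omega) hnil
    rw [this]; rfl
  have hodd : Odd (p ^ a) := (odd_p (F := F) h2).pow
  have hn₂ : Even n₂ := by
    have : Even (n₁ + n₂) := by rw [hdim]; decide
    exact (Nat.even_add.1 this).1 heven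
  have hlt : p ^ a < n₂ + 1 := by omega
  have hd' : d₉ * dc Q₁ = 1 ∨ d₉ * dc Q₁ = -1 := by
    rcases hd₉ with rfl | rfl <;> rcases dc_cases hQ₁ with h | h <;> rw [h] <;> simp
  have h3 := (Rz.of hQ₁ hg₁ (n := n₁) (by simp)).add h2 (rz_jordan h2 (hn₂.add_one) hlt hd')
  have h4 : dc Q₁ * (d₉ * dc Q₁) = d₉ := by
    rcases dc_cases hQ₁ with h | h <;> rw [h] <;> ring
  have h5 : n₁ + (n₂ + 1) = 9 := by omega
  rw [h4, mul_one, h5] at h3
  refine h3.dvd (Nat.lcm_ne_zero hn10 (pow_ne_zero _ hp.out.ne_zero)) ?_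
  -- divisibility
  have hba : b ≤ a := by
    -- `p ^ b = orderOf g₂ ∣ p ^ a * m`
    have h6 : p ^ b ∣ p ^ a * m := by rw [← hb, ← ham, hord]; exact Nat.dvd_lcm_right _ _
    have hcop : Nat.Coprime (p ^ b) m := Nat.Coprime.pow_left _ ((Nat.Prime.coprime_iff_not_dvd hp.out).2 hm)
    exact (Nat.pow_dvd_pow_iff_le_right hp.out.one_lt).1 (hcop.dvd_of_dvd_mul_right h6)
  have hm1 : m ∣ orderOf g₁ := by
    have h6 : m ∣ (orderOf g₁).lcm (orderOf g₂) := by rw [← hord, ham]; exact Dvd.intro_left _ rfl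
    have h7 : m ∣ orderOf g₁ * p ^ b := h6.trans (by rw [hb]; exact Nat.lcm_dvd_mul _ _)
    have hcop : Nat.Coprime m (p ^ b) :=
      (Nat.Coprime.pow_left _ ((Nat.Prime.coprime_iff_not_dvd hp.out).2 hm)).symm
    exact hcop.dvd_of_dvd_mul_right h7
  rw [ham, ← mul_assoc, ← pow_succ']
  exact Nat.Coprime.mul_dvd_of_dvd_of_dvd
    (Nat.Coprime.pow_left _ ((Nat.Prime.coprime_iff_not_dvd hp.out).2 hm))
    (Nat.dvd_lcm_right _ _) (hm1.trans (Nat.dvd_lcm_left _ _))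

/-- elements of dimension eight, class `-1`, with a nonzero sum of powers -/
def Rq (F : Type*) [Field F] [Fintype F] [DecidableEq F] (N : ℕ) : Prop :=
  ∃ (Q : QuadraticForm F (Fin 8 → F)) (g : (Fin 8 → F) ≃ₗ[F] (Fin 8 → F)),
    Nondeg Q ∧ dc Q = -1 ∧ El Q 1 g ∧ orderOf g = N ∧ ∃ v, ∑ i ∈ Finset.range (orderOf g), (g ^ i) v ≠ 0

/-- the orders of the affine group -/
def Aff (F : Type*) [Field F] [Fintype F] [DecidableEq F] (p N : ℕ) : Prop :=
  Rz F 8 (-1) 1 N ∨ ∃ M, N = p * M ∧ Rq F M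

/-- divisors of orders of the affine group -/
def AffD (F : Type*) [Field F] [Fintype F] [DecidableEq F] (p N : ℕ) : Prop :=
  ∃ N₁, N ∣ N₁ ∧ Aff F p N₁

theorem AffD.of_rz {N N₁ : ℕ} (h : Rz F 8 (-1) 1 N₁) (hN : N ∣ N₁) : AffD F p N := ⟨N₁, hN, Or.inl h⟩

theorem Rg.rq {N a m : ℕ} (h : Rg F 8 (-1) 1 N (p ^ a)) (hN : N = p ^ a * m) (hm : ¬ p ∣ m) : Rq F N := by
  obtain ⟨Q, g, h1, h3, h4, h5, h6⟩ := h
  refine ⟨Q, g, h1, h3, h4, h5, ?_⟩
  rw [h5, hN]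
  exact (sum_ne_iff hm (by rw [← hN, ← h5]; exact pow_orderOf_eq_one g)).2 h6

theorem AffD.of_rg {N N₁ a m : ℕ} (h : Rg F 8 (-1) 1 N₁ (p ^ a)) (hN₁ : N₁ = p ^ a * m) (hm : ¬ p ∣ m)
    (hN : N ∣ p * N₁) : AffD F p N := ⟨p * N₁, hN, Or.inr ⟨N₁, rfl, Rg.rq h hN₁ hm⟩⟩

theorem AffD.dvd {M N : ℕ} (h : AffD F p N) (hM : M ∣ N) : AffD F p M := by
  obtain ⟨N₁, h1, h2⟩ := h
  exact ⟨N₁, hM.trans h1, h2⟩

/-! ### The list -/

theorem not_dvd_two (h2 : (2 : F) ≠ 0) : ¬ p ∣ 2 := by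
  intro h
  have h3 := (Nat.prime_dvd_prime_iff_eq hp.out Nat.prime_two).1 h
  subst h3
  apply h2
  exact_mod_cast CharP.cast_eq_zero F 2

theorem p_dvd_card : p ∣ Fintype.card F := by
  obtain ⟨n, hpp, hn⟩ := FiniteField.card F p
  rw [hn]
  exact dvd_pow_self p n.pos.ne'

theorem not_dvd_sub {k : ℕ} (hk : k ≠ 0) : ¬ p ∣ Fintype.card F ^ k - 1 := by
  intro h
  have h1 : p ∣ Fintype.card F ^ k := dvd_pow (p_dvd_card (F := F)) hk
  have h3 : 1 ≤ Fintype.card F ^ k := Nat.one_le_pow _ _ Fintype.card_pos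
  have h4 : p ∣ 1 := by
    have := Nat.dvd_sub h1 h
    rwa [Nat.sub_sub_self h3] at this
  exact hp.out.one_lt.ne' (Nat.dvd_one.1 h4)

theorem not_dvd_add {k : ℕ} (hk : k ≠ 0) : ¬ p ∣ Fintype.card F ^ k + 1 := by
  intro h
  have h1 : p ∣ Fintype.card F ^ k := dvd_pow (p_dvd_card (F := F)) hk
  have h4 : p ∣ 1 := (Nat.dvd_add_right h1).1 h
  exact hp.out.one_lt.ne' (Nat.dvd_one.1 h4)

omit [Fintype F] [DecidableEq F] [CharP F p] in
theorem not_dvd_lcm {a b : ℕ} (ha : ¬ p ∣ a) (hb : ¬ p ∣ b) : ¬ p ∣ a.lcm b := by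
  intro h
  rcases (hp.out.dvd_mul).1 (h.trans (Nat.lcm_dvd_mul a b)) with h1 | h1
  · exact ha h1
  · exact hb h1

theorem units_cases (s : ℤˣ) : (s : ℤ) = 1 ∨ (s : ℤ) = -1 := by
  rcases Int.units_eq_one_or s with rfl | rfl
  · exact Or.inl rfl
  · exact Or.inr rfl

theorem cls_cases {c d : ℤ} (hc : c = 1 ∨ c = -1) (hd : d = 1 ∨ d = -1) :
    (-(c * d) = 1 ∨ -(c * d) = -1) ∧ c * d * -(c * d) = -1 := by
  rcases hc with rfl | rfl <;> rcases hd with rfl | rfl <;> norm_num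

omit hp [CharP F p] in
theorem chi_cases (k : ℕ) : quadraticChar F (-1) ^ k = 1 ∨ quadraticChar F (-1) ^ k = -1 := by
  rcases quadraticChar_dichotomy (neg_ne_zero.2 (one_ne_zero (α := F))) with h | h
  · rw [h, one_pow]; exact Or.inl rfl
  · rw [h]; exact neg_one_pow_eq_or ℤ k

/-- tori of dimension six -/
theorem aff_six (h2 : (2 : F) ≠ 0) {c : ℤ} {s : ℤˣ} {N : ℕ} (hc : c = 1 ∨ c = -1) (h : Rz F 6 c s N) :
    AffD F p N := by
  obtain ⟨N', hN', h3⟩ := rz_plane h2 (d := -c) (by rcases hc with rfl | rfl <;> simp) s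
  have h4 := h.add h2 h3
  have h5 : c * -c = -1 := by rcases hc with rfl | rfl <;> norm_num
  rw [h5, Int.units_mul_self] at h4
  exact AffD.of_rz h4 (Nat.dvd_lcm_left _ _)

/-- tori of dimension four -/
theorem aff_four (h2 : (2 : F) ≠ 0) {c : ℤ} {s : ℤˣ} {N : ℕ} (hc : c = 1 ∨ c = -1) (h : Rz F 4 c s N)
    (hN : ¬ p ∣ N) : AffD F p (p * N) := by
  obtain ⟨h3, h4⟩ := cls_cases hc (units_cases s)
  have h5 := (h.add h2 (rz_neg h2 s)).addg h2 (rg_one h2 (n := 2) two_ne_zero h3)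
  rw [h4, Int.units_mul_self, one_mul, Nat.lcm_one_right] at h5
  refine AffD.of_rg (a := 0) (m := N.lcm 2) (by rw [pow_zero]; exact h5) (by rw [pow_zero, one_mul])
    (not_dvd_lcm hN (not_dvd_two (F := F) h2)) ?_
  exact Nat.mul_dvd_mul_left p (Nat.dvd_lcm_left _ _)

/-- tori of dimension two, `p = 3` -/
theorem aff_two (h2 : (2 : F) ≠ 0) (hp3 : p = 3) {c : ℤ} {s : ℤˣ} {N : ℕ} (hc : c = 1 ∨ c = -1) (h : Rz F 2 c s N)
    (hN : ¬ p ∣ N) : AffD F p (9 * N) := by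
  obtain ⟨h3, h4⟩ := cls_cases hc (units_cases s)
  have h5 := ((h.add h2 (rz_neg h2 s)).add h2 (rz_one h2 (n := 1) one_ne_zero (d := 1) (Or.inl rfl))).addg h2
    (rg_jordan (p := p) h2 1 h3)
  rw [mul_one, h4, Int.units_mul_self, mul_one, mul_one, Nat.lcm_one_right, pow_one] at h5
  have hdim : 2 + 2 + 1 + p = 8 := by omega
  rw [hdim] at h5
  have hm : ¬ p ∣ N.lcm 2 := not_dvd_lcm hN (not_dvd_two (F := F) h2)
  have hcop : Nat.Coprime (N.lcm 2) p := ((Nat.Prime.coprime_iff_not_dvd hp.out).2 hm).symm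
  refine AffD.of_rg (a := 1) (m := N.lcm 2) (N₁ := (N.lcm 2).lcm p) (by rw [pow_one]; exact h5) ?_ hm ?_
  · rw [hcop.lcm_eq_mul, pow_one, mul_comm]
  · rw [hcop.lcm_eq_mul, hp3]
    obtain ⟨t, ht⟩ := Nat.dvd_lcm_left N 2
    exact ⟨t, by rw [ht]; ring⟩

/-- `50`, `p = 5` -/
theorem aff_fifty (h2 : (2 : F) ≠ 0) (hp5 : p = 5) : AffD F p 50 := by
  have h5 := ((rz_neg h2 (F := F) 1).add h2 (rz_one h2 (n := 1) one_ne_zero (d := 1) (Or.inl rfl))).addg h2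
    (rg_jordan (p := p) h2 1 (d := -1) (Or.inr rfl))
  rw [mul_one, mul_one, mul_one, Nat.lcm_one_right, pow_one, Units.val_one, one_mul] at h5
  have hdim : 2 + 1 + p = 8 := by omega
  rw [hdim] at h5
  have hm : ¬ p ∣ 2 := not_dvd_two (F := F) h2
  have hcop : Nat.Coprime 2 p := ((Nat.Prime.coprime_iff_not_dvd hp.out).2 hm).symm
  refine AffD.of_rg (a := 1) (m := 2) (N₁ := Nat.lcm 2 p) (by rw [pow_one]; exact h5) ?_ hm ?_
  · rw [hcop.lcm_eq_mul, pow_one, mul_comm]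
  · rw [hcop.lcm_eq_mul, hp5]

omit [Fintype F] [DecidableEq F] in
theorem neg_mul_neg_mul {V : Type*} [AddCommGroup V] [Module F V] (g : V ≃ₗ[F] V) :
    LinearEquiv.neg F * (LinearEquiv.neg F * g) = g := by
  ext x
  simp

/-- `(q ^ 4 - 1) / 2` -/
theorem aff_half (h2 : (2 : F) ≠ 0) : AffD F p ((Fintype.card F ^ 4 - 1) / 2) := by
  obtain ⟨e, he⟩ := card_odd_eq (F := F) h2
  obtain ⟨s₁, h1⟩ := rz_split (F := F) (d := 2) two_ne_zero
  obtain ⟨c, s₂, hc, hc2, h3⟩ := rz_nonsplit (F := F) h2 (d := 2) two_ne_zero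
  have hc' := hc2 rfl
  subst hc'
  obtain ⟨t, ht⟩ : ∃ t, t = 2 * e ^ 2 + 2 * e + 1 := ⟨_, rfl⟩
  have hq2 : Fintype.card F ^ 2 + 1 = 2 * t := by rw [he, ht]; ring
  -- a variant with sign `s₁`
  obtain ⟨N', hN', hR⟩ : ∃ N', t ∣ N' ∧ Rz F 4 (-1) s₁ N' := by
    by_cases hs : s₂ = s₁
    · subst hs
      exact ⟨_, by rw [hq2]; exact Dvd.intro_left 2 rfl, h3⟩
    · obtain ⟨Q, g, a1, a2, a3, a4⟩ := h3
      have h4 : El Q (-1) (LinearEquiv.neg F : (Fin (2 * 2) → F) ≃ₗ[F] _) :=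
        el_neg h2 a1 (by simp; decide) (by rw [a2]; rfl)
      have h5 : (-1 : ℤˣ) * s₂ = s₁ := by
        rcases Int.units_eq_one_or s₁ with rfl | rfl <;> rcases Int.units_eq_one_or s₂ with rfl | rfl
        · exact absurd rfl hs
        · rfl
        · rfl
        · exact absurd rfl hs
      refine ⟨orderOf (LinearEquiv.neg F * g), ?_, Q, LinearEquiv.neg F * g, a1, a2, h5 ▸ h4.mul a3, rfl⟩
      have h6 : g ^ (2 * orderOf (LinearEquiv.neg F * g)) = 1 := by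
        have h7 := neg_mul_pow (pow_orderOf_eq_one (LinearEquiv.neg F * g))
        have h8 : LinearEquiv.neg F * (LinearEquiv.neg F * g) = g := neg_mul_neg_mul g
        rwa [h8] at h7
      have h9 := orderOf_dvd_of_pow_eq_one h6
      rw [a4, hq2] at h9
      exact Nat.dvd_of_mul_dvd_mul_left (by norm_num) h9
  have h10 := h1.add h2 hR
  have hchi : quadraticChar F (-1) ^ 2 = 1 := quadraticChar_sq_one (neg_ne_zero.2 one_ne_zero)
  rw [hchi, one_mul, Int.units_mul_self] at h10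
  refine AffD.of_rz h10 ?_
  have hq21 : Fintype.card F ^ 2 - 1 = 2 * (t - 1) := by omega
  have h11 : (Fintype.card F ^ 4 - 1) / 2 = (Fintype.card F ^ 2 - 1) * t := by
    have h12 : Fintype.card F ^ 4 - 1 = (Fintype.card F ^ 2 + 1) * (Fintype.card F ^ 2 - 1) := by
      have := Nat.sq_sub_sq (Fintype.card F ^ 2) 1
      rw [← pow_mul] at this
      simpa using this
    rw [h12, hq2, mul_assoc, Nat.mul_div_cancel_left _ (by norm_num), mul_comm]
  rw [h11]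
  have hcop : Nat.Coprime (Fintype.card F ^ 2 - 1) t := by
    rw [hq21]
    apply Nat.Coprime.mul_left
    · have : Odd t := ⟨e ^ 2 + e, by rw [ht]; ring⟩
      simpa using this.coprime_two_left
    · exact (Nat.coprime_self_sub_left (by omega)).2 (Nat.coprime_one_left _)
  exact Nat.Coprime.mul_dvd_of_dvd_of_dvd hcop (Nat.dvd_lcm_left _ _) (hN'.trans (Nat.dvd_lcm_right _ _))

/-- **The plus type.** -/
theorem aff_plus (h2 : (2 : F) ≠ 0) {Q : QuadraticForm F (Fin 8 → F)} (hQ : Nondeg Q) (hdc : dc Q = 1)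
    {g : (Fin 8 → F) ≃ₗ[F] (Fin 8 → F)} (hg : El Q 1 g) (hno : ∀ x, g x = x → x = 0) : AffD F p (orderOf g) := by
  have hp3 : 3 ≤ p := by
    have h3 := hp.out.two_le
    rcases Nat.lt_or_ge 2 p with h | h
    · exact h
    · exfalso
      have : p = 2 := by omega
      exact not_dvd_two (F := F) (p := p) h2 (by rw [this])
  have hq0 : 0 < Fintype.card F := Fintype.card_pos
  obtain ⟨s3, h3s⟩ := rz_split (F := F) (d := 3) (by norm_num)
  obtain ⟨c3, s3', hc3, -, h3n⟩ := rz_nonsplit (F := F) h2 (d := 3) (by norm_num)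
  obtain ⟨s2, h2s⟩ := rz_split (F := F) (d := 2) (by norm_num)
  obtain ⟨c2, s2', hc2, -, h2n⟩ := rz_nonsplit (F := F) h2 (d := 2) (by norm_num)
  obtain ⟨s1, h1s⟩ := rz_split (F := F) (d := 1) (by norm_num)
  obtain ⟨c1, s1', hc1, -, h1n⟩ := rz_nonsplit (F := F) h2 (d := 1) (by norm_num)
  rcases upper h2 hp3 hQ (by simp) hdc hg hno with h | h | h | h | h | ⟨h3, h⟩ | ⟨h3, h⟩ | ⟨h5, h⟩
  · exact (aff_half h2).dvd (orderOf_dvd_of_pow_eq_one h)
  · exact (aff_six h2 (chi_cases 3) h3s).dvd (orderOf_dvd_of_pow_eq_one h)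
  · exact (aff_six h2 hc3 h3n).dvd (orderOf_dvd_of_pow_eq_one h)
  · exact (aff_four h2 (chi_cases 2) h2s (not_dvd_sub two_ne_zero)).dvd (orderOf_dvd_of_pow_eq_one h)
  · exact (aff_four h2 hc2 h2n (not_dvd_add two_ne_zero)).dvd (orderOf_dvd_of_pow_eq_one h)
  · refine (aff_two h2 h3 (chi_cases 1) h1s (not_dvd_sub one_ne_zero)).dvd ?_
    rw [pow_one]
    exact orderOf_dvd_of_pow_eq_one h
  · refine (aff_two h2 h3 hc1 h1n (not_dvd_add one_ne_zero)).dvd ?_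
    rw [pow_one]
    exact orderOf_dvd_of_pow_eq_one h
  · exact (aff_fifty h2 h5).dvd (orderOf_dvd_of_pow_eq_one h)

/-- **From dimension nine to the affine group.** -/
theorem dirB (h2 : (2 : F) ≠ 0) {V : Type*} [AddCommGroup V] [Module F V] [FiniteDimensional F V] [Finite V]
    (hV : finrank F V = 9) {Q : QuadraticForm F V} (hQ : Nondeg Q) {g : V ≃ₗ[F] V} (hg : El Q 1 g) :
    AffD F p (orderOf g) := by
  obtain ⟨n₁, n₂, Q₁, Q₂, g₁, g₂, b, hdim, hQ₁, hQ₂, hdc, hg₁, hg₂, hord, hno, hnil, heven, hb, -⟩ :=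
    split_el (p := p) h2 hQ hg
  rw [hV] at hdim
  have hn₂ : Odd n₂ := by
    rw [← Nat.not_even_iff_odd]
    intro h
    have : Even (n₁ + n₂) := heven.add h
    rw [hdim] at this
    exact absurd this (by decide)
  have hn10 : orderOf g₁ ≠ 0 := by
    have hfin : Finite ((Fin n₁ → F) ≃ₗ[F] (Fin n₁ → F)) :=
      Finite.of_injective (fun g : (Fin n₁ → F) ≃ₗ[F] (Fin n₁ → F) => (g : (Fin n₁ → F) → (Fin n₁ → F)))
        DFunLike.coe_injective
    exact (orderOf_pos g₁).ne'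
  have hneg : ∀ {c : ℤ}, (c = 1 ∨ c = -1) → (-c = 1 ∨ -c = -1) ∧ c * -c = -1 := by
    rintro c (rfl | rfl) <;> norm_num
  by_cases h1 : n₂ = 1
  · -- `g₂ = 1`
    have hg₂1 : g₂ ^ (p ^ 0) = 1 := unip_pow (p := p) hnil (by rw [h1, pow_zero])
    rw [pow_zero, pow_one] at hg₂1
    rw [hg₂1, orderOf_one, Nat.lcm_one_right] at hord
    have hn1 : n₁ = 8 := by omega
    subst hn1
    rw [hord]
    rcases dc_cases hQ₁ with hd | hd
    · exact aff_plus h2 hQ₁ hd hg₁ hno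
    · exact AffD.of_rz ⟨Q₁, g₁, hQ₁, hd, hg₁, rfl⟩ dvd_rfl
  · have h3n : 3 ≤ n₂ := by
      obtain ⟨k, hk⟩ := hn₂
      omega
    -- the order of `g₁` itself
    have hR₁ : Rz F 8 (-1) 1 (orderOf g₁) := by
      obtain ⟨h3, h4⟩ := hneg (dc_cases hQ₁)
      have h5 := (Rz.of hQ₁ hg₁ (n := n₁) (by simp)).add h2 (rz_one h2 (n := 8 - n₁) (by omega) h3)
      have h6 : n₁ + (8 - n₁) = 8 := by omega
      rwa [h4, mul_one, Nat.lcm_one_right, h6] at h5
    rcases Nat.eq_zero_or_pos b with hb0 | hb0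
    · rw [hb0, pow_zero] at hb
      rw [hb, Nat.lcm_one_right] at hord
      rw [hord]
      exact AffD.of_rz hR₁ dvd_rfl
    obtain ⟨b', rfl⟩ := Nat.exists_eq_succ_of_ne_zero hb0.ne'
    -- `p ^ b' ≤ n₂ - 2`
    have hlt : p ^ b' < n₂ := by
      by_contra hge
      push Not at hge
      have h3 := orderOf_dvd_of_pow_eq_one (unip_pow (p := p) hnil hge)
      rw [hb] at h3
      have := (Nat.pow_dvd_pow_iff_le_right hp.out.one_lt).1 h3
      omega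
    have hodd : Odd (p ^ b') := (odd_p (F := F) h2).pow
    have hle : p ^ b' + 2 ≤ n₂ := by
      obtain ⟨k, hk⟩ := hn₂
      obtain ⟨l, hl⟩ := hodd
      omega
    obtain ⟨j, m, hm, hjm⟩ := Nat.exists_eq_pow_mul_and_not_dvd hn10 p hp.out.ne_one
    have hcop : ∀ k, Nat.Coprime (p ^ k) m := fun k =>
      Nat.Coprime.pow_left _ ((Nat.Prime.coprime_iff_not_dvd hp.out).2 hm)
    rcases Nat.lt_or_ge b' j with hj | hj
    · -- `orderOf g = orderOf g₁`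
      refine AffD.of_rz hR₁ ?_
      rw [hord, hb]
      refine Nat.lcm_dvd dvd_rfl ?_
      rw [hjm]
      exact (pow_dvd_pow p hj).mul_right m
    · obtain ⟨h3, h4⟩ := hneg (dc_cases hQ₁)
      have h5 := ((Rz.of hQ₁ hg₁ (n := n₁) (by simp)).add h2
        (rz_one h2 (n := 8 - n₁ - p ^ b') (by omega) (d := 1) (Or.inl rfl))).addg h2 (rg_jordan (p := p) h2 b' h3)
      have h6 : n₁ + (8 - n₁ - p ^ b') + p ^ b' = 8 := by omega
      rw [mul_one, h4, mul_one, mul_one, Nat.lcm_one_right, h6] at h5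
      have h7 : (orderOf g₁).lcm (p ^ b') = p ^ b' * m := by
        rw [hjm]
        apply Nat.dvd_antisymm
        · refine Nat.lcm_dvd ?_ (Dvd.intro _ rfl)
          exact Nat.mul_dvd_mul_right (pow_dvd_pow p hj) m
        · exact Nat.Coprime.mul_dvd_of_dvd_of_dvd (hcop b') (Nat.dvd_lcm_right _ _)
            ((Dvd.intro_left _ rfl : m ∣ p ^ j * m).trans (Nat.dvd_lcm_left _ _))
      refine AffD.of_rg h5 h7 hm ?_
      rw [hord, hb, h7]
      refine Nat.lcm_dvd ?_ ?_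
      · rw [hjm, ← mul_assoc, ← pow_succ']
        exact Nat.mul_dvd_mul_right (pow_dvd_pow p (by omega)) m
      · rw [← mul_assoc, ← pow_succ']
        exact Dvd.intro _ rfl

end Cfsg.Agent.H160.QMain
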