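import Mathlib
import Cfsg.Prelude.Def_Classical
import Cfsg.Agent.H160.QMain
import Cfsg.Agent.H160.QSemi
import Cfsg.Agent.LieClassical.OrthForms
import Cfsg.Agent.LieClassical.OrthFinite
import Cfsg.Agent.LieClassical.OrthCenter
import Cfsg.Agent.FooteOrth.Spin
import Cfsg.Agent.S2516

/-!
# `PΩ₉(q)` and `q⁸ : Ω₈⁻(q)` have the same element orders: the groups of the statement (helper160)
-/

set_option autoImplicit false
set_option linter.unusedSectionVars false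

namespace Cfsg.Agent.H160.QFinal

open QuadraticMap Module
open Cfsg.Agent.LieClassical.OrthCore Cfsg.Agent.LieClassical.OrthFinite Cfsg.Agent.LieClassical.OrthForms
  Cfsg.Agent.H160.QSpin Cfsg.Agent.H160.QDisc Cfsg.Agent.H160.QSplit
  Cfsg.Agent.H160.QReal Cfsg.Agent.H160.QMain Cfsg.Agent.H160.QSemi

section Omega

variable {F : Type*} [Field F] [Finite F] {ι : Type} [Fintype ι] [DecidableEq ι]

/-- the linear map of an element of `Omega` -/
noncomputable def lin (Q : QuadraticForm F (ι → F)) : Cfsg.Omega F ⇑Q →* ((ι → F) ≃ₗ[F] (ι → F)) :=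
  (⁅O Q, O Q⁆ : Subgroup ((ι → F) ≃ₗ[F] (ι → F))).subtype.comp (omegaEquiv Q).toMonoidHom

theorem lin_injective (Q : QuadraticForm F (ι → F)) : Function.Injective (lin Q) :=
  (Subgroup.subtype_injective _).comp (omegaEquiv Q).injective

theorem orderOf_lin (Q : QuadraticForm F (ι → F)) (x : Cfsg.Omega F ⇑Q) : orderOf (lin Q x) = orderOf x :=
  orderOf_injective (lin Q) (lin_injective Q) x

theorem commutator_le_self {G : Type*} [Group G] {H : Subgroup G} : ⁅H, H⁆ ≤ H := by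
  rw [Subgroup.commutator_le]
  intro a ha b hb
  exact H.mul_mem (H.mul_mem (H.mul_mem ha hb) (H.inv_mem ha)) (H.inv_mem hb)

theorem el_lin (h2 : (2 : F) ≠ 0) {Q : QuadraticForm F (ι → F)} (hQ : Nondeg Q) (hd : 5 ≤ Fintype.card ι)
    (x : Cfsg.Omega F ⇑Q) : El Q 1 (lin Q x) := by
  have hG := good_of_finite hQ (by rwa [finrank_fintype_fun_eq_card])
  have h3 : lin Q x ∈ E Q := by
    rw [← hG.commutator_eq_E]
    exact (omegaEquiv Q x).2
  have hO : lin Q x ∈ O Q := commutator_le_self (omegaEquiv Q x).2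
  obtain ⟨h4, h5⟩ := (FooteOrth.mem_E_iff hG h2 hO).1 h3
  exact ⟨hO, h4, by rw [spin_eq_sg, h5]⟩

theorem exists_lin (h2 : (2 : F) ≠ 0) {Q : QuadraticForm F (ι → F)} (hQ : Nondeg Q) (hd : 5 ≤ Fintype.card ι)
    {g : (ι → F) ≃ₗ[F] (ι → F)} (hg : El Q 1 g) : ∃ x : Cfsg.Omega F ⇑Q, lin Q x = g := by
  have hG := good_of_finite hQ (by rwa [finrank_fintype_fun_eq_card])
  obtain ⟨hO, h4, h5⟩ := hg
  have h3 : g ∈ E Q := (FooteOrth.mem_E_iff hG h2 hO).2 ⟨h4, by rw [← spin_eq_sg, h5]⟩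
  rw [← hG.commutator_eq_E] at h3
  refine ⟨(omegaEquiv Q).symm ⟨g, h3⟩, ?_⟩
  show ((omegaEquiv Q ((omegaEquiv Q).symm ⟨g, h3⟩) : (⁅O Q, O Q⁆ : Subgroup _)) : (ι → F) ≃ₗ[F] (ι → F)) = g
  rw [MulEquiv.apply_symm_apply]

/-- the orders of the elements of `PΩ₂ₘ₊₁(q)` -/
theorem range_POmega (h2 : (2 : F) ≠ 0) {Q : QuadraticForm F (ι → F)} (hQ : Nondeg Q) (hd : 5 ≤ Fintype.card ι)
    (hodd : Odd (Fintype.card ι)) (N : ℕ) :
    (N ∈ Set.range (orderOf : Cfsg.POmega F ⇑Q → ℕ)) ↔ ∃ g : (ι → F) ≃ₗ[F] (ι → F), El Q 1 g ∧ orderOf g = N := by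
  have hG := good_of_finite hQ (by rwa [finrank_fintype_fun_eq_card])
  have hcen : Subgroup.center (Cfsg.Omega F ⇑Q) = ⊥ := by
    obtain ⟨w, hw0, hw⟩ := hG.sing
    exact Cfsg.Agent.LieClassical.OrthCenter.center_omega_eq_bot_of_odd h2 (nondeg_bilin hQ) (by omega) hodd
      ⟨w, hw0, hw⟩
  let e : Cfsg.POmega F ⇑Q ≃* Cfsg.Omega F ⇑Q :=
    (QuotientGroup.quotientMulEquivOfEq hcen).trans QuotientGroup.quotientBot
  constructor
  · rintro ⟨x, rfl⟩
    exact ⟨lin Q (e x), el_lin h2 hQ hd _, by rw [orderOf_lin, MulEquiv.orderOf_eq]⟩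
  · rintro ⟨g, hg, rfl⟩
    obtain ⟨x, rfl⟩ := exists_lin h2 hQ hd hg
    exact ⟨e.symm x, by rw [orderOf_lin, MulEquiv.orderOf_eq]⟩

/-- the representation on the natural module -/
noncomputable def rho (Q : QuadraticForm F (ι → F)) : Representation F (Cfsg.Omega F ⇑Q) (ι → F) :=
  (LinearEquiv.automorphismGroup.toLinearMapMonoidHom).comp (lin Q)

/-- the action of the statement -/
noncomputable abbrev phi (Q : QuadraticForm F (ι → F)) : Cfsg.Omega F ⇑Q →* MulAut (Multiplicative (ι → F)) :=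
  (MulAutMultiplicative (ι → F)).symm.toMonoidHom.comp
    ((DistribMulAction.toAddAut (LinearMap.GeneralLinearGroup F (ι → F)) (ι → F)).comp
      (Matrix.GeneralLinearGroup.toLin.toMonoidHom.comp
        ((Cfsg.isometryGroup F ⇑Q).subtype.comp (Cfsg.Omega F ⇑Q).subtype)))

theorem phi_eq (Q : QuadraticForm F (ι → F)) : phi Q = Cfsg.Agent.S2516.act (rho Q) := by
  refine MonoidHom.ext fun g => MulEquiv.ext fun v => ?_
  rfl

variable {p : ℕ} [hp : Fact p.Prime] [CharP F p]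

theorem rho_pow (Q : QuadraticForm F (ι → F)) (x : Cfsg.Omega F ⇑Q) (n : ℕ) (v : ι → F) :
    (∑ i ∈ Finset.range n, (rho Q x) ^ i) v = ∑ i ∈ Finset.range n, ((lin Q x) ^ i) v := by
  rw [LinearMap.sum_apply]
  refine Finset.sum_congr rfl fun i _ => ?_
  rw [← map_pow (rho Q), ← map_pow (lin Q)]
  rfl

/-- the orders of the elements of the affine group -/
theorem range_aff (h2 : (2 : F) ≠ 0) {Q : QuadraticForm F (ι → F)} (hQ : Nondeg Q) (hd : 5 ≤ Fintype.card ι) (N : ℕ) :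
    (N ∈ Set.range (orderOf : (Multiplicative (ι → F)) ⋊[phi Q] (Cfsg.Omega F ⇑Q) → ℕ)) ↔
      ∃ g : (ι → F) ≃ₗ[F] (ι → F), El Q 1 g ∧
        (orderOf g = N ∨ (p * orderOf g = N ∧ ∃ v, ∑ i ∈ Finset.range (orderOf g), (g ^ i) v ≠ 0)) := by
  rw [phi_eq]
  have hfin : Finite (Cfsg.Omega F ⇑Q) := inferInstance
  constructor
  · rintro ⟨x, rfl⟩
    refine ⟨lin Q x.right, el_lin h2 hQ hd _, ?_⟩
    rw [orderOf_lin]
    by_cases h : (∑ i ∈ Finset.range (orderOf x.right), (rho Q x.right) ^ i) (Multiplicative.toAdd x.left) = 0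
    · left
      have hk : x ^ orderOf x.right = 1 := by
        refine SemidirectProduct.ext ?_ ?_
        · rw [(Cfsg.Agent.S2516.pow_left (rho Q) x _).1, h]
          rfl
        · rw [(Cfsg.Agent.S2516.pow_left (rho Q) x _).2]
          exact pow_orderOf_eq_one _
      refine Nat.dvd_antisymm ?_ (orderOf_dvd_of_pow_eq_one hk)
      have := (Cfsg.Agent.S2516.pow_left (rho Q) x (orderOf x)).2
      rw [pow_orderOf_eq_one] at this
      exact orderOf_dvd_of_pow_eq_one this.symm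
    · right
      refine ⟨((Cfsg.Agent.S2516.order_iff (rho Q) p x).2 h).symm, Multiplicative.toAdd x.left, ?_⟩
      rwa [← rho_pow]
  · rintro ⟨g, hg, h⟩
    obtain ⟨x, rfl⟩ := exists_lin h2 hQ hd hg
    rw [orderOf_lin] at h
    rcases h with rfl | ⟨rfl, v, hv⟩
    · exact ⟨SemidirectProduct.inr x, orderOf_injective _ SemidirectProduct.inr_injective x⟩
    · refine ⟨⟨Multiplicative.ofAdd v, x⟩, (Cfsg.Agent.S2516.order_iff (rho Q) p ⟨Multiplicative.ofAdd v, x⟩).2 ?_⟩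
      show (∑ i ∈ Finset.range (orderOf x), (rho Q x) ^ i) v ≠ 0
      rwa [rho_pow]

theorem dvd_mem {G : Type*} [Group G] [Finite G] {N M : ℕ} (h : N ∈ Set.range (orderOf : G → ℕ)) (hM : M ∣ N) :
    M ∈ Set.range (orderOf : G → ℕ) := by
  obtain ⟨x, rfl⟩ := h
  exact ⟨x ^ (orderOf x / M), orderOf_pow_orderOf_div (orderOf_pos x).ne' hM⟩

end Omega

section Disc

variable {F : Type*} [Field F] [Fintype F] [DecidableEq F]

theorem minus_disc (h2 : (2 : F) ≠ 0) {a b : F}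
    (hab : ∀ z₁ z₂ : F, z₁ ^ 2 + a * z₁ * z₂ + b * z₂ ^ 2 = 0 → z₁ = 0 ∧ z₂ = 0) :
    quadraticChar F (a ^ 2 - 4 * b) = -1 := by
  rw [quadraticChar_neg_one_iff_not_isSquare]
  rintro ⟨s, hs⟩
  have h := (hab ((-a + s) / 2) 1 ?_).2
  · exact one_ne_zero h
  · field_simp
    linear_combination -hs

/-- the binary form -/
noncomputable def binF (a b : F) : QuadraticForm F (Fin 2 → F) :=
  QuadraticMap.linMulLin (LinearMap.proj 0) (LinearMap.proj 0) +
    a • QuadraticMap.linMulLin (LinearMap.proj 0) (LinearMap.proj 1) +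
    b • QuadraticMap.linMulLin (LinearMap.proj 1) (LinearMap.proj 1)

theorem binF_apply (a b : F) (v : Fin 2 → F) : binF a b v = v 0 ^ 2 + a * v 0 * v 1 + b * v 1 ^ 2 := by
  simp only [binF, add_apply, smul_apply, QuadraticMap.linMulLin_apply, LinearMap.proj_apply, smul_eq_mul]
  ring

theorem dc_binF (a b : F) : dc (binF a b) = quadraticChar F (4 * b - a ^ 2) := by
  rw [dc_eq (Pi.basisFun F (Fin 2)), Matrix.det_fin_two]
  congr 1
  simp only [LinearMap.BilinForm.toMatrix_apply, Pi.basisFun_apply]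
  show polar (binF a b) _ _ * polar (binF a b) _ _ - polar (binF a b) _ _ * polar (binF a b) _ _ = _
  simp only [QuadraticMap.polar, binF_apply, Pi.add_apply, Pi.single_apply]
  norm_num
  ring

theorem dc_minusForm (h2 : (2 : F) ≠ 0) {a b : F}
    (hab : ∀ z₁ z₂ : F, z₁ ^ 2 + a * z₁ * z₂ + b * z₂ ^ 2 = 0 → z₁ = 0 ∧ z₂ = 0) :
    dc (minusForm 3 F a b) = -1 := by
  let e : (((Fin 3 → F) × (Fin 3 → F)) × (Fin 2 → F)) ≃ₗ[F] ((Fin 3 ⊕ Fin 3) ⊕ Fin 2 → F) :=
    ((LinearEquiv.sumArrowLequivProdArrow (Fin 3) (Fin 3) F F).symm.prodCongr (LinearEquiv.refl F _)).trans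
      (LinearEquiv.sumArrowLequivProdArrow (Fin 3 ⊕ Fin 3) (Fin 2) F F).symm
  have he : IsIso ((hyp F 3).prod (binF a b)) (minusForm 3 F a b) e := by
    rintro ⟨⟨x, y⟩, z⟩
    rw [coe_minusForm, quadFormMinus_apply, QuadraticMap.prod_apply, binF_apply]
    rfl
  rw [dc_iso he, dc_prod, dc_hyp, dc_binF]
  have h3 : quadraticChar F (4 * b - a ^ 2) = quadraticChar F (-1) * quadraticChar F (a ^ 2 - 4 * b) := by
    rw [← map_mul]
    congr 1
    ring
  rw [h3, minus_disc h2 hab]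
  have h4 : quadraticChar F (-1) ^ 2 = 1 := quadraticChar_sq_one (neg_ne_zero.2 one_ne_zero)
  linear_combination (-quadraticChar F (-1) ^ 2 - 1) * h4

end Disc

section Main

variable {F : Type*} [Field F] [Fintype F] [DecidableEq F]

theorem transport_rz (h2 : (2 : F) ≠ 0) {ι : Type} [Fintype ι] [DecidableEq ι] {Q : QuadraticForm F (ι → F)}
    (hQ : Nondeg Q) {n : ℕ} (hn : Fintype.card ι = n) {N : ℕ} (h : Rz F n (dc Q) 1 N) :
    ∃ g : (ι → F) ≃ₗ[F] (ι → F), El Q 1 g ∧ orderOf g = N := by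
  obtain ⟨Q', g', hQ', hd, hEl, hord⟩ := h
  obtain ⟨e, he⟩ := exists_iso h2 hQ' hQ (by simp [hn]) hd
  exact ⟨cj e g', hEl.cj he, by rw [orderOf_cj, hord]⟩

theorem sum_cj {V W : Type*} [AddCommGroup V] [Module F V] [AddCommGroup W] [Module F W] (e : V ≃ₗ[F] W)
    (g : V ≃ₗ[F] V) (n : ℕ) (v : V) :
    ∑ i ∈ Finset.range n, ((cj e g) ^ i) (e v) = e (∑ i ∈ Finset.range n, (g ^ i) v) := by
  rw [map_sum]
  refine Finset.sum_congr rfl fun i _ => ?_
  rw [← cj_pow, cj_apply']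

/-- **The theorem.** -/
theorem main (h2 : (2 : F) ≠ 0) (p : ℕ) [hp : Fact p.Prime] [CharP F p] {ι₉ ι₈ : Type} [Fintype ι₉]
    [DecidableEq ι₉] [Fintype ι₈] [DecidableEq ι₈] {Q₉ : QuadraticForm F (ι₉ → F)} {Q₈ : QuadraticForm F (ι₈ → F)}
    (h9 : Nondeg Q₉) (h8 : Nondeg Q₈) (c9 : Fintype.card ι₉ = 9) (c8 : Fintype.card ι₈ = 8) (hdc : dc Q₈ = -1) :
    Set.range (orderOf : Cfsg.POmega F ⇑Q₉ → ℕ) =
      Set.range (orderOf : (Multiplicative (ι₈ → F)) ⋊[phi Q₈] (Cfsg.Omega F ⇑Q₈) → ℕ) := by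
  have hfin : Finite ((Multiplicative (ι₈ → F)) ⋊[phi Q₈] (Cfsg.Omega F ⇑Q₈)) :=
    Finite.of_injective (fun x => (x.left, x.right)) fun x y h => by
      rw [Prod.mk.injEq] at h
      exact SemidirectProduct.ext h.1 h.2
  ext N
  constructor
  · intro h
    rw [range_POmega h2 h9 (by omega) (by rw [c9]; decide)] at h
    obtain ⟨g, hg, rfl⟩ := h
    obtain ⟨N₁, hdvd, h⟩ := dirB (p := p) h2 (by simp [c9]) h9 hg
    refine dvd_mem (N := N₁) ?_ hdvd
    rw [range_aff (p := p) h2 h8 (by omega)]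
    rcases h with h | ⟨M, rfl, Q', g', hQ', hd, hEl, hord, v, hv⟩
    · obtain ⟨g', h1, h3⟩ := transport_rz h2 h8 c8 (by rw [hdc]; exact h)
      exact ⟨g', h1, Or.inl h3⟩
    · obtain ⟨e, he⟩ := exists_iso h2 hQ' h8 (by simp [c8]) (by rw [hd, hdc])
      refine ⟨cj e g', hEl.cj he, Or.inr ⟨by rw [orderOf_cj, hord], e v, ?_⟩⟩
      rw [orderOf_cj, sum_cj]
      exact (LinearEquiv.map_ne_zero_iff e).2 hv
  · rw [range_aff (p := p) h2 h8 (by omega), range_POmega h2 h9 (by omega) (by rw [c9]; decide)]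
    rintro ⟨g, hg, rfl | ⟨rfl, v, hv⟩⟩
    · exact transport_rz h2 h9 c9 (dirA h2 (dc_cases h9) (by simp [c8]) h8 hg)
    · exact transport_rz h2 h9 c9 (dirA' h2 (dc_cases h9) (by simp [c8]) h8 hg ⟨v, hv⟩)

end Main

end Cfsg.Agent.H160.QFinal
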